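import Cfsg.Agent.Lib.TwoGroups.SmallOrders.Tools
import Cfsg.Agent.Lib.Transfer.Fusion

/-!
Owner: helper12. A simple group has no self-normalising Sylow subgroup meeting every other Sylow
subgroup in at most a prime order; hence there is no simple group of order 756.
-/

set_option autoImplicit false

namespace CfsgLib.TwoGroups.SmallOrders

open Subgroup MulAction CfsgLib.Perm
open scoped Pointwise commutatorElement

variable {G : Type*} [Group G] [Finite G]

theorem mem_smul_sylow {p : ℕ} {g x : G} {P : Sylow p G} :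
    x ∈ ((g • P : Sylow p G) : Subgroup G) ↔ g⁻¹ * x * g ∈ (P : Subgroup G) := by
  rw [Sylow.coe_subgroup_smul, Subgroup.mem_pointwise_smul_iff_inv_smul_mem]
  simp [MulAut.smul_def]

/-- Self-normalising Sylow subgroups with small intersections are impossible in a simple group. -/
theorem false_of_self_normalizing [IsSimpleGroup G] (hG : ¬ IsMulCommutative G) {p k : ℕ} [Fact p.Prime]
    (hk : 2 ≤ k) (hP : ∀ R : Sylow p G, Nat.card (R : Subgroup G) = p ^ k)
    (P : Sylow p G) (hN : normalizer ((P : Subgroup G) : Set G) = P)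
    (hint : ∀ R S : Sylow p G, R ≠ S → Nat.card ↥((R : Subgroup G) ⊓ (S : Subgroup G)) < p ^ 2) :
    False := by
  have hp : p.Prime := Fact.out
  -- centralisers within a Sylow subgroup are large
  have hbig : ∀ (R : Sylow p G) (x : G), x ∈ (R : Subgroup G) →
      p ^ 2 ≤ Nat.card ↥((R : Subgroup G) ⊓ centralizer ({x} : Set G)) := by
    intro R x hx
    set C := (R : Subgroup G) ⊓ centralizer ({x} : Set G) with hC
    set Z := (center (R : Subgroup G)).map (R : Subgroup G).subtype with hZ
    have hne : Nontrivial (R : Subgroup G) := Finite.one_lt_card_iff_nontrivial.1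
      (by rw [hP R]; exact one_lt_pow₀ hp.one_lt (by omega))
    have hZC : Z ≤ C := by
      rintro _ ⟨c, hc, rfl⟩
      exact ⟨c.2, mem_centralizer_singleton_iff.2
        (congrArg Subtype.val ((mem_center_iff.1 hc) ⟨x, hx⟩)).symm⟩
    have hxC : x ∈ C := ⟨hx, mem_centralizer_singleton_iff.2 rfl⟩
    obtain ⟨n, hn⟩ := (R.isPGroup'.to_le (inf_le_left : C ≤ R)).exists_card_eq
    obtain ⟨i, hi⟩ := ((R.isPGroup'.to_subgroup (center (R : Subgroup G)))).exists_card_eq
    have hZi : Nat.card Z = p ^ i := by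
      rw [hZ, card_map_of_injective (subtype_injective _), hi]
    have hi0 : i ≠ 0 := fun e => by
      have := R.isPGroup'.center_nontrivial
      rw [e, pow_zero] at hi
      exact absurd (Finite.one_lt_card_iff_nontrivial.2 this) (by omega)
    by_cases hxZ : x ∈ Z
    · have : (R : Subgroup G) ≤ C := fun y hy => ⟨hy, mem_centralizer_singleton_iff.2 (by
        obtain ⟨c, hc, rfl⟩ := hxZ
        exact congrArg Subtype.val ((mem_center_iff.1 hc) ⟨y, hy⟩))⟩
      exact le_trans (le_trans (Nat.pow_le_pow_right hp.pos hk) (hP R).ge)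
        (Nat.le_of_dvd Nat.card_pos (card_dvd_of_le this))
    · have hlt : Z < C := lt_of_le_of_ne hZC fun e => hxZ (e ▸ hxC)
      have hne' : Nat.card Z ≠ Nat.card C := fun e => hlt.ne (eq_of_le_of_card_ge hZC e.ge)
      have hin : p ^ i ∣ p ^ n := hZi ▸ hn ▸ card_dvd_of_le hZC
      have hin' : i ≤ n := (Nat.pow_dvd_pow_iff_le_right hp.one_lt).1 hin
      rw [hn]
      refine Nat.pow_le_pow_right hp.pos ?_
      rcases Nat.lt_or_ge i n with h | h
      · omega
      · exact absurd (hZi.trans ((congrArg (p ^ ·) (le_antisymm hin' h)).trans hn.symm)) hne'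
  -- so they are Sylow subgroups of the centraliser
  have hsyl : ∀ (R : Sylow p G) (x : G), x ∈ (R : Subgroup G) →
      ∃ Q : Sylow p (centralizer ({x} : Set G)),
        (Q : Subgroup _) = (R : Subgroup G).subgroupOf (centralizer ({x} : Set G)) := by
    intro R x hx
    set K := centralizer ({x} : Set G)
    refine ⟨⟨(R : Subgroup G).subgroupOf K, R.isPGroup'.comap_of_injective _ K.subtype_injective,
      fun {Q} hQ hle => ?_⟩, rfl⟩
    obtain ⟨T, hT⟩ := (hQ.map K.subtype).exists_le_sylow
    have hTR : T = R := by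
      by_contra hne
      have h1 := hint T R hne
      have h2 : (R : Subgroup G) ⊓ K ≤ (T : Subgroup G) ⊓ (R : Subgroup G) := fun y hy =>
        ⟨hT ⟨⟨y, hy.2⟩, hle (mem_subgroupOf.2 hy.1), rfl⟩, hy.1⟩
      have h3 := Nat.le_of_dvd Nat.card_pos (card_dvd_of_le h2)
      have := hbig R x hx
      change p ^ 2 ≤ Nat.card ↥((R : Subgroup G) ⊓ K) at this
      omega
    refine le_antisymm (fun y hy => mem_subgroupOf.2 ?_) hle
    exact hTR ▸ hT ⟨y, hy, rfl⟩
  have hctrl : ∀ x ∈ (P : Subgroup G), ∀ g : G, g⁻¹ * x * g ∈ (P : Subgroup G) →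
      ∃ n ∈ (P : Subgroup G), n⁻¹ * x * n = g⁻¹ * x * g := by
    intro x hx g hg
    have hxR : x ∈ ((g • P : Sylow p G) : Subgroup G) := mem_smul_sylow.2 hg
    obtain ⟨Q₁, hQ₁⟩ := hsyl P x hx
    obtain ⟨Q₂, hQ₂⟩ := hsyl (g • P) x hxR
    obtain ⟨c, hc⟩ := MulAction.exists_smul_eq (centralizer ({x} : Set G)) Q₁ Q₂
    have hcx : (c : G) * x = x * c := mem_centralizer_singleton_iff.1 c.2
    have hcP : (c : G) • P = g • P := by
      by_contra hne
      have h1 := hint _ _ hne
      have h2 : ((g • P : Sylow p G) : Subgroup G) ⊓ centralizer ({x} : Set G) ≤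
          ((((c : G) • P : Sylow p G)) : Subgroup G) ⊓ ((g • P : Sylow p G) : Subgroup G) := by
        intro y hy
        refine ⟨mem_smul_sylow.2 ?_, hy.1⟩
        have hy2 : (⟨y, hy.2⟩ : centralizer ({x} : Set G)) ∈ (c • Q₁ : Sylow p _) := by
          rw [hc]
          show (⟨y, hy.2⟩ : centralizer ({x} : Set G)) ∈ (Q₂ : Subgroup _)
          rw [hQ₂]; exact mem_subgroupOf.2 hy.1
        have hy3 := mem_smul_sylow.1 hy2
        rw [hQ₁, mem_subgroupOf] at hy3
        exact hy3
      have h3 := Nat.le_of_dvd Nat.card_pos (card_dvd_of_le h2)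
      have := hbig (g • P) x hxR
      omega
    refine ⟨(c : G)⁻¹ * g, ?_, ?_⟩
    · exact hN.le (Sylow.smul_eq_iff_mem_normalizer.1 (by rw [mul_smul, ← hcP, inv_smul_smul]))
    · calc ((c : G)⁻¹ * g)⁻¹ * x * ((c : G)⁻¹ * g) = g⁻¹ * ((c : G) * x) * (c : G)⁻¹ * g := by group
        _ = g⁻¹ * x * g := by rw [hcx]; group
  have hperf : _root_.commutator G = ⊤ := by
    rcases (inferInstance : (_root_.commutator G).Normal).eq_bot_or_eq_top with e | e
    · refine absurd ⟨⟨fun a b => ?_⟩⟩ hG
      have : ⁅a, b⁆ ∈ _root_.commutator G := commutator_mem_commutator (mem_top a) (mem_top b)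
      rw [e, mem_bot] at this
      exact commutatorElement_eq_one_iff_mul_comm.1 this
    · exact e
  have h1 := CfsgLib.Transfer.commutator_inf_eq_of_controls P le_rfl hctrl
  rw [hperf, top_inf_eq] at h1
  have h2 : (P : Subgroup G) ≤ ⁅(P : Subgroup G), (P : Subgroup G)⁆ := h1.le.trans inf_le_left
  have hne : Nontrivial (P : Subgroup G) := Finite.one_lt_card_iff_nontrivial.1
    (by rw [hP P]; exact one_lt_pow₀ hp.one_lt (by omega))
  have : Group.IsNilpotent (P : Subgroup G) := P.isPGroup'.isNilpotent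
  have hlt := Group.IsSolvable.commutator_lt_top_of_nontrivial (P : Subgroup G)
  refine hlt.ne ((map_injective (P : Subgroup G).subtype_injective) ?_)
  rw [_root_.commutator, map_commutator, ← MonoidHom.range_eq_map, range_subtype]
  exact le_antisymm (commutator_le.2 fun a ha b hb => by
    rw [commutatorElement_def]; exact mul_mem (mul_mem (mul_mem ha hb) (inv_mem ha)) (inv_mem hb)) h2

theorem false_seven_fifty_six [IsSimpleGroup G] (hG : ¬ IsMulCommutative G) (h : Nat.card G = 756) : False := by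
  have : Fact (Nat.Prime 3) := ⟨Nat.prime_three⟩
  have hP : ∀ R : Sylow 3 G, Nat.card (R : Subgroup G) = 3 ^ 3 := fun R =>
    sylow_card_eq R (m := 28) (by rw [h]; norm_num) (by norm_num)
  have hidx : ∀ H : Subgroup G, H ≠ ⊤ → 8 ≤ H.index := fun H hH => by
    by_contra hlt
    have h5 := two_mul_card_dvd_factorial_of_index_le hG H hH (m := 7) (by omega)
    rw [h] at h5
    norm_num [Nat.factorial] at h5
  have hsmall : ∀ R S : Sylow 3 G, R ≠ S → Nat.card ↥((R : Subgroup G) ⊓ (S : Subgroup G)) < 3 ^ 2 := by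
    intro R S hRS
    by_contra hge
    have h1 := card_mul_index ((S : Subgroup G).subgroupOf (R : Subgroup G))
    rw [← inf_subgroupOf_left, Nat.card_congr (subgroupOfEquivOfLe inf_le_left).toEquiv, inf_subgroupOf_left,
      hP] at h1
    obtain ⟨H, hH, -, hle⟩ := exists_large_subgroup (m := 28) (k := 3) (by rw [h]; norm_num) (by norm_num)
      (by norm_num) hRS (by nlinarith)
    have := hidx H hH
    omega
  obtain ⟨P⟩ := (inferInstance : Nonempty (Sylow 3 G))
  obtain ⟨hd, hmod, hne⟩ := card_sylow_mem (q := 2) (p := 3) (k := 3) (m := 28)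
    (by rw [h]; norm_num : Nat.card G = 3 ^ 3 * 28) (by norm_num) Nat.prime_two (by norm_num) (by norm_num)
  have hN8 := hidx (normalizer ((P : Subgroup G) : Set G))
    (fun e => hne (P.card_eq_index_normalizer.trans ((congrArg Subgroup.index e).trans index_top)))
  replace hN8 : 8 ≤ Nat.card (Sylow 3 G) := hN8.trans (le_of_eq P.card_eq_index_normalizer.symm)
  have hmem := Nat.mem_divisors.2 ⟨hd, (by norm_num : (28 : ℕ) ≠ 0)⟩
  rw [show (28 : ℕ).divisors = ({1, 2, 4, 7, 14, 28} : Finset ℕ) from by decide +kernel] at hmem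
  simp only [Finset.mem_insert, Finset.mem_singleton] at hmem
  have hN := card_normalizer_mul_card_sylow P
  refine false_of_self_normalizing hG (by norm_num) hP P
    (eq_of_le_of_card_ge le_normalizer ?_).symm hsmall
  rw [hP P]
  rw [h, show Nat.card (Sylow 3 G) = 28 by omega] at hN
  omega

end CfsgLib.TwoGroups.SmallOrders
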