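import Cfsg.Agent.Lib.Perm.SylowFixed
import Cfsg.Agent.Lib.Perm.ZassenhausSimpleTorus

/-!
Owner: helper12. A simple group with `q + 1` Sylow `p`-subgroups of order `q` meeting trivially and
two-point stabilisers of order a proper power of two is a Zassenhaus group with the extremal degree.
-/

set_option autoImplicit false

namespace CfsgLib.TwoGroups.SylowZassenhaus

open Subgroup MulAction CfsgLib.Perm
open scoped Pointwise

variable {G : Type*} [Group G] [Finite G] [IsSimpleGroup G]

/-- The numerical and intersection hypotheses. -/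
structure Hyp (G : Type*) [Group G] (p k e : ℕ) : Prop where
  hp : p.Prime
  comm : ¬ IsMulCommutative G
  card : Nat.card G = (p ^ k + 1) * p ^ k * 2 ^ e
  count : Nat.card (Sylow p G) = p ^ k + 1
  sylow : ∀ R : Sylow p G, Nat.card (R : Subgroup G) = p ^ k
  ti : ∀ R S : Sylow p G, R ≠ S → ∀ d, d ∈ (R : Subgroup G) → d ∈ (S : Subgroup G) → d = 1
  four : ∀ j, 0 < j → j < k → ¬ 4 ∣ p ^ k - p ^ j

variable {p k e : ℕ}

theorem eq_of_smul (h : Hyp G p k e) [Fact p.Prime] {P S : Sylow p G} (hPS : S ≠ P) {q : G}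
    (hq : q ∈ (P : Subgroup G)) (hqS : q • S = S) : q = 1 := by
  rw [Sylow.smul_eq_iff_mem_normalizer] at hqS
  have h2 : q ∈ (P : Subgroup G) ⊓ (S : Subgroup G) := by
    rw [← P.isPGroup'.inf_normalizer_sylow S]
    exact ⟨hq, hqS⟩
  exact h.ti _ _ hPS.symm _ h2.1 h2.2

theorem exists_smul_of_ne (h : Hyp G p k e) [Fact p.Prime] {P R S : Sylow p G} (hR : R ≠ P)
    (hS : S ≠ P) : ∃ q ∈ (P : Subgroup G), q • R = S := by
  classical
  let f : ↥(P : Subgroup G) → {T : Sylow p G // T ≠ P} := fun q => ⟨(q : G) • R, fun e => hR (by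
    have := congrArg (fun T => (q : G)⁻¹ • T) e
    simpa [inv_smul_smul, smul_eq_of_mem ((P : Subgroup G).inv_mem q.2)] using this)⟩
  have hf : Function.Injective f := by
    intro a b e
    have e' : (a : G) • R = (b : G) • R := congrArg Subtype.val e
    refine (inv_mul_eq_one.mp (Subtype.ext (eq_of_smul h hR (mul_mem (inv_mem b.2) a.2) ?_) :
      b⁻¹ * a = 1)).symm
    rw [Subgroup.coe_mul, Subgroup.coe_inv, mul_smul, e', inv_smul_smul]
  have hcard : Nat.card {T : Sylow p G // T ≠ P} ≤ Nat.card (P : Subgroup G) := by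
    have := Fintype.ofFinite (Sylow p G)
    rw [h.sylow P, Nat.card_eq_fintype_card, Fintype.card_subtype_compl, Fintype.card_subtype_eq,
      ← Nat.card_eq_fintype_card, h.count, Nat.add_sub_cancel]
  obtain ⟨q, hq⟩ := (hf.bijective_of_nat_card_le hcard).2 ⟨S, hS⟩
  exact ⟨q, q.2, congrArg Subtype.val hq⟩

theorem card_two_stabilizer (h : Hyp G p k e) [Fact p.Prime] {P R : Sylow p G} (hR : R ≠ P) :
    Nat.card ↥(stabilizer G P ⊓ stabilizer G R : Subgroup G) = 2 ^ e := by
  classical
  set N := stabilizer G P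
  set E := (stabilizer G P ⊓ stabilizer G R : Subgroup G)
  have hN : Nat.card N = p ^ k * 2 ^ e := by
    have h1 : N = normalizer ((P : Subgroup G) : Set G) := Sylow.stabilizer_eq_normalizer P
    have := CfsgLib.Perm.card_normalizer_mul_card_sylow P
    rw [h.count, h.card, ← h1] at this
    refine Nat.eq_of_mul_eq_mul_right (Nat.succ_pos (p ^ k)) ?_
    rw [this, Nat.succ_eq_add_one]; ring
  let f : ↥(P : Subgroup G) × ↥E → N := fun x => ⟨(x.1 : G) * (x.2 : G),
    mul_mem (show (x.1 : G) ∈ N from smul_eq_of_mem x.1.2) x.2.2.1⟩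
  have hf : Function.Bijective f := by
    refine ⟨fun a b e => ?_, fun g => ?_⟩
    · have e' : (a.1 : G) * (a.2 : G) = (b.1 : G) * (b.2 : G) := congrArg Subtype.val e
      have h1 : ((b.1 : G)⁻¹ * a.1) • R = R := by
        rw [show (b.1 : G)⁻¹ * a.1 = (b.2 : G) * (a.2 : G)⁻¹ by
          rw [eq_mul_inv_iff_mul_eq, mul_assoc, e']; group]
        exact (mul_mem b.2.2.2 (inv_mem a.2.2.2) : (b.2 : G) * (a.2 : G)⁻¹ ∈ stabilizer G R)
      have h2 := eq_of_smul h hR (mul_mem (inv_mem b.1.2) a.1.2) h1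
      have h3 : b.1 = a.1 := Subtype.ext (inv_mul_eq_one.mp h2)
      rw [h3] at e'
      exact Prod.ext h3.symm (Subtype.ext (mul_left_cancel e'))
    · have hgR : (g : G) • R ≠ P := fun e => hR (MulAction.injective (g : G) (e.trans g.2.symm))
      obtain ⟨q, hq, hqR⟩ := exists_smul_of_ne h hR hgR
      refine ⟨⟨⟨q, hq⟩, ⟨q⁻¹ * g, ?_, ?_⟩⟩, Subtype.ext (mul_inv_cancel_left q g)⟩
      · exact N.mul_mem (N.inv_mem (smul_eq_of_mem hq : q • P = P)) g.2
      · show (q⁻¹ * (g : G)) • R = R
        rw [mul_smul, ← hqR, inv_smul_smul]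
  have := Nat.card_congr (Equiv.ofBijective f hf)
  rw [Nat.card_prod, h.sylow P, hN] at this
  exact Nat.eq_of_mul_eq_mul_left (pow_pos h.hp.pos k) this

theorem eq_one_of_three (h : Hyp G p k e) [Fact p.Prime] {g : G} {a b c : Sylow p G}
    (hab : a ≠ b) (hbc : b ≠ c) (hac : a ≠ c) (ha : g • a = a) (hb : g • b = b) (hc : g • c = c) : g = 1 := by
  classical
  suffices key : ∀ t : G, orderOf t = 2 → t • a = a → t • b = b → t • c = c → False by
    by_contra hg1
    have hgE : g ∈ (stabilizer G a ⊓ stabilizer G b : Subgroup G) := ⟨ha, hb⟩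
    have h4 := Subgroup.orderOf_dvd_natCard _ hgE
    rw [card_two_stabilizer h hab.symm] at h4
    obtain ⟨i, hi, hio⟩ := (Nat.dvd_prime_pow Nat.prime_two).1 h4
    have hi0 : i ≠ 0 := fun e => hg1 (orderOf_eq_one_iff.1 (by rw [hio, e, pow_zero]))
    have hfix : ∀ x : Sylow p G, g • x = x → g ^ 2 ^ (i - 1) • x = x := fun x hx =>
      (pow_mem (show g ∈ stabilizer G x from hx) _ : g ^ 2 ^ (i - 1) ∈ stabilizer G x)
    refine key _ ?_ (hfix a ha) (hfix b hb) (hfix c hc)
    rw [orderOf_pow, hio, Nat.gcd_eq_right (pow_dvd_pow 2 (Nat.sub_le i 1)),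
      Nat.pow_div (Nat.sub_le i 1) two_pos, show i - (i - 1) = 1 by omega, pow_one]
  intro t ht hta htb htc
  have htN := Sylow.smul_eq_iff_mem_normalizer.1 hta
  set C := (a : Subgroup G) ⊓ centralizer ({t} : Set G)
  -- fixed points other than `a` correspond to `C`
  let f : C → {S : fixedSylows p t // S.1 ≠ a} := fun q => ⟨⟨(q : G) • b, by
    rw [smul_smul, ← mem_centralizer_singleton_iff.1 q.2.2, ← smul_smul, htb]⟩, fun e => hab (by
    have := congrArg (fun T => (q : G)⁻¹ • T) (e : (q : G) • b = a)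
    simp only [inv_smul_smul, smul_eq_of_mem ((a : Subgroup G).inv_mem q.2.1)] at this
    exact this.symm)⟩
  have hf : Function.Bijective f := by
    refine ⟨fun x y e => ?_, fun S => ?_⟩
    · have e' : (x : G) • b = (y : G) • b := congrArg (fun u => u.1.1) e
      have := eq_of_smul h hab.symm (mul_mem (inv_mem y.2.1) x.2.1) (by rw [mul_smul, e', inv_smul_smul])
      exact Subtype.ext (inv_mul_eq_one.mp this).symm
    · obtain ⟨q, hq, hqS⟩ := exists_smul_of_ne h hab.symm S.2
      refine ⟨⟨q, hq, mem_centralizer_singleton_iff.2 ?_⟩, Subtype.ext (Subtype.ext hqS)⟩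
      have h1 : (q⁻¹ * (t * q * t⁻¹)) • b = b := by
        have htb' : t⁻¹ • b = b := inv_smul_eq_iff.2 htb.symm
        rw [mul_smul, mul_smul, mul_smul, htb', hqS, S.1.2, ← hqS, inv_smul_smul]
      have h2 := eq_of_smul h hab.symm (mul_mem (inv_mem hq) ((mem_normalizer_iff.1 htN q).1 hq)) h1
      have h3 : q = t * q * t⁻¹ := inv_mul_eq_one.1 h2
      conv_lhs => rw [h3]
      group
  have hsum : Nat.card {S : fixedSylows p t // S.1 ≠ a} + 1 = Nat.card (fixedSylows p t) := by
    have := Fintype.ofFinite (fixedSylows p t)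
    have e : Nat.card {S : fixedSylows p t // S.1 ≠ a} = Nat.card {S : fixedSylows p t // S ≠ ⟨a, hta⟩} :=
      Nat.card_congr (Equiv.subtypeEquivRight fun S => by simp [Subtype.ext_iff])
    rw [e, Nat.card_eq_fintype_card, Nat.card_eq_fintype_card, Fintype.card_subtype_compl, Fintype.card_subtype_eq]
    have : 0 < Fintype.card (fixedSylows p t) := Fintype.card_pos_iff.2 ⟨⟨a, hta⟩⟩
    omega
  rw [← Nat.card_congr (Equiv.ofBijective f hf)] at hsum
  have hC9 : Nat.card C ∣ p ^ k := (card_dvd_of_le inf_le_left).trans (h.sylow a).dvd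
  have ht2 : t * t = 1 := by rw [← pow_two, ← ht, pow_orderOf_eq_one]
  obtain ⟨h4, -⟩ := card_fixedSylows_four (p := p) h.comm ht2
  obtain ⟨j, hj, hjc⟩ := (Nat.dvd_prime_pow h.hp).1 hC9
  have h3F : 3 ≤ Nat.card (fixedSylows p t) := by
    let s : Fin 3 → fixedSylows p t := ![⟨a, hta⟩, ⟨b, htb⟩, ⟨c, htc⟩]
    have := Nat.card_le_card_of_injective s (by
      intro x y
      fin_cases x <;> fin_cases y <;> simp [s, hab, hbc, hac, hab.symm, hbc.symm, hac.symm])
    rwa [Nat.card_fin] at this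
  rw [h.count] at h4
  rcases (show j = 0 ∨ (0 < j ∧ j < k) ∨ j = k by omega) with rfl | ⟨hj0, hjk⟩ | rfl
  · rw [pow_zero] at hjc; omega
  · rw [← hsum, hjc, Nat.add_sub_add_right] at h4
    exact h.four j hj0 hjk h4
  · -- `t` fixes every point
    have hall : ∀ S : Sylow p G, t • S = S := by
      by_contra hne
      push Not at hne
      obtain ⟨S, hS⟩ := hne
      have := Fintype.ofFinite (Sylow p G)
      have : Nat.card (fixedSylows p t) < Nat.card (Sylow p G) :=
        Finite.card_subtype_lt (p := fun R : Sylow p G => t • R = R) (x := S) hS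
      rw [h.count, ← hsum, hjc] at this
      exact lt_irrefl _ this
    have hker : t ∈ (MulAction.toPermHom G (Sylow p G)).ker := Equiv.ext hall
    rcases (MonoidHom.normal_ker (MulAction.toPermHom G (Sylow p G))).eq_bot_or_eq_top with e | e
    · rw [e, mem_bot] at hker
      rw [hker, orderOf_one] at ht
      omega
    · obtain ⟨g, hg⟩ := MulAction.exists_smul_eq G a b
      exact hab ((Equiv.ext_iff.1 (e ▸ mem_top g : g ∈ (MulAction.toPermHom G (Sylow p G)).ker) a).symm.trans hg)

/-- With two-point stabilisers of even order the degree is extremal. -/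
theorem two_mul_eq (h : Hyp G p k e) (he : e ≠ 0) : 2 * 2 ^ e = p ^ k - 1 := by
  classical
  have : Fact p.Prime := ⟨h.hp⟩
  let Ω := Sylow p G
  have := Fintype.ofFinite Ω
  have hn : Fintype.card Ω = p ^ k + 1 := by rw [← Nat.card_eq_fintype_card]; exact h.count
  obtain ⟨P, R, hPR⟩ := (Fintype.one_lt_card_iff_nontrivial.1
    (by have := pow_pos h.hp.pos k; omega : 1 < Fintype.card Ω)).exists_pair_ne
  have hker : (MulAction.toPermHom G Ω).ker = ⊥ := by
    refine ((MonoidHom.normal_ker _).eq_bot_or_eq_top).resolve_right fun e0 => ?_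
    obtain ⟨g, hg⟩ := MulAction.exists_smul_eq G P R
    exact hPR ((Equiv.ext_iff.1 (e0 ▸ mem_top g : g ∈ (MulAction.toPermHom G Ω).ker) P).symm.trans hg)
  have hZ : Cfsg.IsZassenhausGroup G Ω := by
    refine ⟨⟨fun {x y} hxy => (MonoidHom.ker_eq_bot_iff _).1 hker (Equiv.ext hxy)⟩,
      MulAction.is_two_pretransitive_iff.2 fun {a b c d} hab hcd => ?_,
      fun g a b c hab hbc hac ha hb hc => eq_one_of_three h hab hbc hac ha hb hc, ?_, fun N hN hNt => ?_⟩
    · obtain ⟨g₁, hg₁⟩ := MulAction.exists_smul_eq G a P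
      obtain ⟨g₂, hg₂⟩ := MulAction.exists_smul_eq G c P
      obtain ⟨q, hq, hqe⟩ := exists_smul_of_ne h (R := g₁ • b) (S := g₂ • d) (P := P)
        (fun e => hab (MulAction.injective g₁ (hg₁.trans e.symm)))
        (fun e => hcd (MulAction.injective g₂ (hg₂.trans e.symm)))
      refine ⟨g₂⁻¹ * q * g₁, ?_, ?_⟩
      · rw [mul_smul, mul_smul, hg₁, smul_eq_of_mem hq, ← hg₂, inv_smul_smul]
      · rw [mul_smul, mul_smul, hqe, inv_smul_smul]
    · have h4 := card_two_stabilizer h hPR.symm
      obtain ⟨g, hg, hg1⟩ := (bot_or_exists_ne_one (stabilizer G P ⊓ stabilizer G R : Subgroup G)).resolve_left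
        (fun e0 => by rw [e0, card_bot] at h4; exact absurd h4.symm (by rw [Nat.pow_eq_one]; omega))
      exact ⟨g, hg1, P, R, hPR, hg.1, hg.2⟩
    · rcases hN.eq_bot_or_eq_top with e | e
      · subst e
        exfalso
        obtain ⟨g, hg⟩ := hNt.exists_smul_eq P R
        have hg1 : g = 1 := Subsingleton.elim g 1
        rw [hg1, one_smul] at hg
        exact hPR hg
      · subst e
        refine ⟨P, fun hb => ?_⟩
        have h4 := card_two_stabilizer h hPR.symm
        obtain ⟨g, hg, hg1⟩ := (bot_or_exists_ne_one (stabilizer G P ⊓ stabilizer G R : Subgroup G)).resolve_left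
          (fun e0 => by rw [e0, card_bot] at h4; exact absurd h4.symm (by rw [Nat.pow_eq_one]; omega))
        have : (⟨g, mem_top g⟩ : (⊤ : Subgroup G)) ∈ stabilizer (⊤ : Subgroup G) P := hg.1
        rw [hb, mem_bot] at this
        exact hg1 (congrArg Subtype.val this)
  have h4 := card_two_stabilizer h hPR.symm
  have hev : Even (Nat.card ↥(stabilizer G P ⊓ stabilizer G R : Subgroup G)) := by
    rw [h4]; exact (Nat.even_pow' he).2 even_two
  have h1 := zass_simple_even_half hZ hPR hev
  have h2 := zass_even_large hZ hPR hev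
  rw [h4, hn] at h1 h2
  omega

end CfsgLib.TwoGroups.SylowZassenhaus
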