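import Cfsg.Agent.Lib.TwoGroups.SmallOrders.Easy
import Cfsg.Agent.Lib.TwoGroups.SmallOrders.SylowZassenhaus
import Cfsg.Agent.Lib.Perm.PrimeOrderCount

/-!
Owner: helper12. There is no simple group of order 720.
-/

set_option autoImplicit false

namespace CfsgLib.TwoGroups.SmallOrders

open Subgroup MulAction CfsgLib.Perm
open scoped Pointwise

variable {G : Type*} [Group G] [Finite G] [IsSimpleGroup G]

/-- Squaring on a group of order five, as an automorphism. -/
def squareAut {P : Subgroup G} (hc : ∀ a b : P, a * b = b * a) (h5 : ∀ a : P, a ^ 5 = 1) : MulAut P where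
  toFun a := a ^ 2
  invFun a := a ^ 3
  left_inv a := by
    show (a ^ 2) ^ 3 = a
    rw [← pow_mul, show 2 * 3 = 5 + 1 by rfl, pow_succ, h5, one_mul]
  right_inv a := by
    show (a ^ 3) ^ 2 = a
    rw [← pow_mul, show 3 * 2 = 5 + 1 by rfl, pow_succ, h5, one_mul]
  map_mul' a b := (show Commute a b from hc a b).mul_pow 2

theorem index_ge_eight (hG : ¬ IsMulCommutative G) (h : Nat.card G = 720) (H : Subgroup G) (hH : H ≠ ⊤) :
    8 ≤ H.index := by
  by_contra hlt
  have h5 := two_mul_card_dvd_factorial_of_index_le hG H hH (m := 7) (by omega)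
  rw [h] at h5
  norm_num [Nat.factorial] at h5

/-- The Sylow 5-normalisers are Frobenius groups of order twenty. -/
theorem sylow_five_facts (hG : ¬ IsMulCommutative G) (h : Nat.card G = 720) [Fact (Nat.Prime 5)]
    (P : Sylow 5 G) :
    Nat.card (P : Subgroup G) = 5 ∧ Nat.card (Sylow 5 G) = 36 ∧
      Nat.card (centralizer ((P : Subgroup G) : Set G)) = 5 := by
  have hall : ∀ R : Sylow 5 G, Nat.card (R : Subgroup G) = 5 := fun R => by
    rw [sylow_card_eq R (k := 1) (m := 144) (by rw [h]; norm_num) (by norm_num), pow_one]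
  obtain ⟨hd, hmod, hne⟩ := card_sylow_mem (q := 2) (p := 5) (k := 1) (m := 144)
    (by rw [h]; norm_num : Nat.card G = 5 ^ 1 * 144) (by norm_num) Nat.prime_two (by norm_num) (by norm_num)
  have hn8 := index_ge_eight hG h (normalizer ((P : Subgroup G) : Set G))
    (fun e => hne (P.card_eq_index_normalizer.trans ((congrArg Subgroup.index e).trans index_top)))
  replace hn8 : 8 ≤ Nat.card (Sylow 5 G) := hn8.trans (le_of_eq P.card_eq_index_normalizer.symm)
  have hmem := Nat.mem_divisors.2 ⟨hd, (by norm_num : (144 : ℕ) ≠ 0)⟩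
  rw [show (144 : ℕ).divisors = ({1, 2, 3, 4, 6, 8, 9, 12, 16, 18, 24, 36, 48, 72, 144} : Finset ℕ)
    from by decide +kernel] at hmem
  simp only [Finset.mem_insert, Finset.mem_singleton] at hmem
  have hcases : Nat.card (Sylow 5 G) = 16 ∨ Nat.card (Sylow 5 G) = 36 := by omega
  have hN := card_normalizer_mul_card_sylow P
  have hne5 : ¬ IsPGroup 5 G := not_isPGroup_of_dvd Nat.prime_two (by norm_num) (by rw [h]; norm_num)
  rcases hcases with e | e
  · exfalso
    rw [e, h] at hN
    refine false_of_normalizer_coprime P (hall P) hne5 (a := 9) (by omega) (by norm_num)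
  refine ⟨hall P, e, ?_⟩
  rw [e, h] at hN
  obtain ⟨r, hra, -, hr1, hC⟩ := exists_card_centralizer P (hall P) hne5 (a := 4) (by omega)
  have : r = 2 ∨ r = 4 := by
    have := Nat.le_of_dvd (by norm_num) hra
    interval_cases r <;> omega
  rcases this with rfl | rfl
  · exfalso
    obtain ⟨z, hz, hzC, hc⟩ := exists_involution_centralizing (by norm_num) P (hall P) (by omega)
    refine false_of_involution_centralizing hG (by norm_num) P (hall P) hall hz hzC (b := 16) (c := 2 * 5)
      (fun F h1 h2 h3 => ?_) hc (fun i hi => ?_)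
    · rw [e] at h1 h3 ⊢
      omega
    · omega
  · omega

/-- No element of order prime to five centralises an element of order five. -/
theorem pow_five_eq_one (hG : ¬ IsMulCommutative G) (h : Nat.card G = 720) {y v : G} (hy : orderOf y = 5)
    (hv : v * y = y * v) : v ^ 5 = 1 := by
  have : Fact (Nat.Prime 5) := ⟨by norm_num⟩
  obtain ⟨Q, hQy⟩ := exists_mem_sylow_of_orderOf (p := 5) (k := 1) (g := y) (by rw [hy, pow_one])
  obtain ⟨hQ5, -, hC⟩ := sylow_five_facts hG h Q
  obtain ⟨-, hz⟩ := eq_zpowers_of_mem_sylow Q hQ5 hQy (fun e => by rw [e, orderOf_one] at hy; omega)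
  have hvC : v ∈ centralizer ((Q : Subgroup G) : Set G) := by
    rw [hz, mem_centralizer_iff]
    rintro _ ⟨i, rfl⟩
    exact ((show Commute v y from hv).zpow_right i).eq.symm
  exact orderOf_dvd_iff_pow_eq_one.1 (hC ▸ Subgroup.orderOf_dvd_natCard _ hvC)

/-- An element `x` of order four whose square has a centraliser of order sixteen and fixes exactly
two of any ten points. -/
theorem exists_four (hG : ¬ IsMulCommutative G) (h : Nat.card G = 720) :
    ∃ x : G, x ^ 4 = 1 ∧ Nat.card (centralizer ({x * x} : Set G)) = 16 ∧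
      ∀ H : Subgroup G, H.index = 10 → ∃ g : G, g * x * g⁻¹ ∈ H := by
  classical
  have : Fact (Nat.Prime 5) := ⟨by norm_num⟩
  obtain ⟨P⟩ := (inferInstance : Nonempty (Sylow 5 G))
  obtain ⟨hP, hn, hC⟩ := sylow_five_facts hG h P
  have hcyc : IsCyclic (P : Subgroup G) := isCyclic_of_prime_card hP
  have hpow : ∀ a : (P : Subgroup G), a ^ 5 = 1 := fun a => by
    have := pow_card_eq_one' (x := a)
    rwa [hP] at this
  set N := normalizer ((P : Subgroup G) : Set G) with hNdef
  have hN : Nat.card N = 20 := by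
    have := card_normalizer_mul_card_sylow P
    rw [hn, h] at this
    change Nat.card N * 36 = 720 at this
    omega
  set f := (P : Subgroup G).normalizerMonoidHom with hf
  have hsurj : Function.Surjective f := by
    rw [← MonoidHom.range_eq_top]
    refine eq_of_le_of_card_ge le_top ?_
    rw [hf, card_top, IsCyclic.card_mulAut, hP, Nat.totient_prime Fact.out]
    have h1 := card_mul_index f.ker
    rw [Subgroup.index_ker, hf, normalizerMonoidHom_ker,
      Nat.card_congr (subgroupOfEquivOfLe (centralizer_le_normalizer _)).toEquiv, hC,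
      show Nat.card ↥(normalizer ((P : Subgroup G) : Set G)) = 20 from hN] at h1
    omega
  obtain ⟨n, hn2⟩ := hsurj (squareAut (fun a b => hcyc.isMulCommutative.is_comm.comm a b) hpow)
  obtain ⟨u, hu⟩ := exists_prime_orderOf_dvd_card' (G := (P : Subgroup G)) 5 (by rw [hP])
  set y : G := (u : G) with hy
  have hy5 : orderOf y = 5 := (Subgroup.orderOf_coe u).trans hu
  have hconj : ∀ a : (P : Subgroup G), (n : G) * a * (n : G)⁻¹ = (a : G) ^ 2 := fun a => by
    exact congrArg Subtype.val (MulEquiv.congr_fun hn2 a)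
  set x : G := (n : G) ^ 5 with hx
  have hx4 : x ^ 4 = 1 := by
    have := congrArg Subtype.val (pow_card_eq_one' (x := n))
    rw [show Nat.card ↥(normalizer ((P : Subgroup G) : Set G)) = 20 from hN, SubmonoidClass.coe_pow] at this
    rw [hx, ← pow_mul]
    exact this
  have hiter : ∀ i : ℕ, ∀ a ∈ (P : Subgroup G), (n : G) ^ i * a * ((n : G) ^ i)⁻¹ = a ^ 2 ^ i := by
    intro i
    induction i with
    | zero => intro a _; simp
    | succ i ih =>
      intro a ha
      calc (n : G) ^ (i + 1) * a * ((n : G) ^ (i + 1))⁻¹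
          = (n : G) * ((n : G) ^ i * a * ((n : G) ^ i)⁻¹) * (n : G)⁻¹ := by rw [pow_succ']; group
        _ = (a ^ 2 ^ i) ^ 2 := by rw [ih a ha]; exact hconj ⟨_, pow_mem ha _⟩
        _ = a ^ 2 ^ (i + 1) := by rw [← pow_mul, pow_succ]
  set z : G := x * x with hz
  have hz2 : z * z = 1 := by rw [hz, ← mul_assoc, ← pow_two, ← pow_succ, ← pow_succ]; exact hx4
  have hinv : ∀ a ∈ (P : Subgroup G), z * a * z⁻¹ = a⁻¹ := by
    intro a ha
    have h5 : a ^ 5 = 1 := congrArg Subtype.val (hpow ⟨a, ha⟩)
    rw [hz, hx, ← pow_add, hiter 10 a ha, eq_inv_iff_mul_eq_one, ← pow_succ,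
      show 2 ^ 10 + 1 = 5 * 205 by norm_num, pow_mul, h5, one_pow]
  have hy1 : y ≠ 1 := fun e => by rw [e, orderOf_one] at hy5; omega
  have hsqr : ∀ a ∈ (P : Subgroup G), a * a = 1 → a = 1 := fun a ha e => by
    have h5 : a ^ 5 = 1 := congrArg Subtype.val (hpow ⟨a, ha⟩)
    calc a = a * ((a * a) * (a * a)) := by rw [e, one_mul, mul_one]
      _ = a ^ 5 := by simp [pow_succ, mul_assoc]
      _ = 1 := h5
  have hzC : z ∉ centralizer ((P : Subgroup G) : Set G) := fun hzC => by
    refine hy1 (hsqr y u.2 ?_)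
    have := hinv y u.2
    rw [← (mem_centralizer_iff.1 hzC) y u.2, mul_inv_cancel_right] at this
    nth_rw 2 [this]
    exact mul_inv_cancel y
  have hzN : z • P = P := Sylow.smul_eq_iff_mem_normalizer.2 (mul_mem (pow_mem n.2 5) (pow_mem n.2 5))
  -- the fixed Sylow 5-subgroups
  have hle := card_fixedSylows_le P hP hzN hzC
  obtain ⟨h4, hFn⟩ := card_fixedSylows_four (p := 5) hG hz2
  have hF0 : 0 < Nat.card (fixedSylows 5 z) := Nat.card_pos_iff.2 ⟨⟨⟨P, hzN⟩⟩, inferInstance⟩
  rw [hn] at hle h4 hFn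
  -- five conjugates of `z` in each normaliser
  have hcount : Nat.card {v : G // IsConj z v ∧ v • P = P} = 5 := by
    refine le_antisymm ?_ ?_
    · have hmem : ∀ v : {v : G // IsConj z v ∧ v • P = P}, z * v.1 ∈ (P : Subgroup G) := by
        rintro ⟨v, hvz, hvP⟩
        have hv2 : v * v = 1 := by
          obtain ⟨g, hg⟩ := isConj_iff.1 hvz
          rw [← hg]
          calc g * z * g⁻¹ * (g * z * g⁻¹) = g * (z * z) * g⁻¹ := by group
            _ = 1 := by rw [hz2]; group
        have hvN := Sylow.smul_eq_iff_mem_normalizer.1 hvP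
        obtain ⟨hy', hzy⟩ := eq_zpowers_of_mem_sylow P hP u.2 hy1
        have hc : v * y * v⁻¹ ∈ zpowers y := hzy ▸ (mem_normalizer_iff.1 hvN y).1 u.2
        obtain ⟨i, -, hi⟩ := (isOfFinOrder_of_finite y).mem_zpowers_iff_mem_range_orderOf.1 hc |> Finset.mem_image.1
        have hii : y ^ (i * i) = y := by
          rw [pow_mul, hi, conj_pow, hi]
          calc v * (v * y * v⁻¹) * v⁻¹ = (v * v) * y * (v * v)⁻¹ := by group
            _ = y := by rw [hv2]; group
        have h1 : i * i % 5 = 1 := by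
          rw [← hy5]
          have h0 : y ^ (i * i) = y ^ 1 := by rw [hii, pow_one]
          rw [pow_inj_mod] at h0
          rw [h0, hy5]
        have hi5 : y ^ i = y ^ (i % 5) := by rw [← hy5, pow_mod_orderOf]
        have hmod : i % 5 = 1 ∨ i % 5 = 4 := by
          have h2 := Nat.mul_mod i i 5
          have h3 : i % 5 < 5 := Nat.mod_lt _ (by norm_num)
          rw [h1] at h2
          interval_cases (i % 5) <;> omega
        rcases hmod with hm | hm
        · exfalso
          rw [hi5, hm, pow_one] at hi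
          have h5 := pow_five_eq_one hG h hy5 (v := v) (mul_inv_eq_iff_eq_mul.1 hi.symm)
          have hv1 : v = 1 := by
            calc v = v * ((v * v) * (v * v)) := by rw [hv2, one_mul, mul_one]
              _ = v ^ 5 := by simp [pow_succ, mul_assoc]
              _ = 1 := h5
          obtain ⟨g, hg⟩ := isConj_iff.1 hvz
          rw [hv1, conj_eq_one_iff] at hg
          exact hzC (hg ▸ one_mem _)
        · have hvy : v * y * v⁻¹ = y⁻¹ := by
            rw [← hi, hi5, hm, eq_inv_iff_mul_eq_one, ← pow_succ, show 4 + 1 = orderOf y by rw [hy5], pow_orderOf_eq_one]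
          have hzv : z * v ∈ centralizer ((P : Subgroup G) : Set G) := by
            rw [hzy, mem_centralizer_iff]
            rintro _ ⟨j, rfl⟩
            refine ((show Commute (z * v) y from ?_).zpow_right j).eq.symm
            refine mul_inv_eq_iff_eq_mul.1 ?_
            calc z * v * y * (z * v)⁻¹ = z * (v * y * v⁻¹) * z⁻¹ := by group
              _ = y := by rw [hvy, ← conj_inv, hinv y u.2, inv_inv]
          have hPC : (P : Subgroup G) = centralizer ((P : Subgroup G) : Set G) := by
            refine eq_of_le_of_card_ge (fun a ha => mem_centralizer_iff.2 fun b hb =>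
              congrArg Subtype.val (hcyc.isMulCommutative.is_comm.comm (⟨b, hb⟩ : (P : Subgroup G)) ⟨a, ha⟩)) ?_
            rw [hC, hP]
          exact hPC.ge hzv
      refine le_trans (Nat.card_le_card_of_injective
        (fun v => (⟨z * v.1, hmem v⟩ : (P : Subgroup G))) fun v w e =>
          Subtype.ext (mul_left_cancel (congrArg Subtype.val e))) hP.le
    · refine le_trans hP.ge (Nat.card_le_card_of_injective (fun a : (P : Subgroup G) =>
        (⟨(a : G) * z * (a : G)⁻¹, isConj_iff.2 ⟨a, rfl⟩, ?_⟩ : {v : G // IsConj z v ∧ v • P = P}))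
        fun a b e => ?_)
      · rw [mul_smul, mul_smul, smul_eq_of_mem ((P : Subgroup G).inv_mem a.2), hzN, smul_eq_of_mem a.2]
      · have e' : (a : G) * z * (a : G)⁻¹ = (b : G) * z * (b : G)⁻¹ := congrArg Subtype.val e
        set w : G := (b : G)⁻¹ * a with hw
        have hw' : w ∈ (P : Subgroup G) := mul_mem (inv_mem b.2) a.2
        have h1 : z * w * z⁻¹ = w := by
          rw [hw]
          calc z * ((b : G)⁻¹ * a) * z⁻¹ = (b : G)⁻¹ * ((b : G) * z * (b : G)⁻¹) * a * z⁻¹ := by group
            _ = (b : G)⁻¹ * ((a : G) * z * (a : G)⁻¹) * a * z⁻¹ := by rw [e']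
            _ = _ := by group
        rw [hinv w hw'] at h1
        have : w = 1 := hsqr w hw' (by nth_rw 1 [← h1]; exact inv_mul_cancel w)
        exact Subtype.ext (inv_mul_eq_one.1 (hw ▸ this)).symm
  have hinc := card_class_incidence z P
  rw [hcount, hn] at hinc
  have hcls := card_isConj_mul_card_centralizer z
  rw [h] at hcls
  have hC16 : Nat.card (centralizer ({z} : Set G)) = 16 := by
    rcases (show Nat.card (fixedSylows 5 z) = 4 ∨ Nat.card (fixedSylows 5 z) = 8 by omega) with e | e
    · rw [e] at hinc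
      rw [show Nat.card {v : G // IsConj z v} = 45 by omega] at hcls
      omega
    · rw [e] at hinc; omega
  refine ⟨x, hx4, hC16, fun H hH => ?_⟩
  -- ten points
  have hH72 : Nat.card H = 72 := by
    have := H.card_mul_index
    rw [hH, h] at this
    omega
  let _ := Fintype.ofFinite (G ⧸ H)
  have hfree : ∀ (q : G ⧸ H) (a : G), a ∈ (P : Subgroup G) → a • q = q → a = 1 := by
    intro q a ha hq
    induction q using QuotientGroup.induction_on with
    | H g =>
      rw [MulAction.Quotient.smul_coe, eq_comm, QuotientGroup.eq, smul_eq_mul] at hq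
      by_contra ha1
      have h5 := Subgroup.orderOf_dvd_natCard H hq
      rw [show g⁻¹ * (a * g) = g⁻¹ * a * (g⁻¹)⁻¹ by group, orderOf_conj_eq, (eq_zpowers_of_mem_sylow P hP ha ha1).1,
        hH72] at h5
      omega
  have hzinv : z⁻¹ = z := inv_eq_of_mul_eq_one_right hz2
  have hle2 : Nat.card {q : G ⧸ H // z • q = q} * 5 ≤ 10 := by
    rw [← hP, ← Nat.card_prod]
    refine (Nat.card_le_card_of_injective (fun s : {q : G ⧸ H // z • q = q} × (P : Subgroup G) =>
      (s.2 : G) • s.1.1) ?_).trans hH.le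
    rintro ⟨⟨q, hq⟩, a⟩ ⟨⟨q', hq'⟩, b⟩ e
    replace e : (a : G) • q = (b : G) • q' := e
    set w : G := (b : G)⁻¹ * a with hw
    have hw' : w ∈ (P : Subgroup G) := mul_mem (inv_mem b.2) a.2
    have h1 : w • q = q' := by rw [hw, mul_smul, e, inv_smul_smul]
    have h2 : w⁻¹ • q = q' := by
      rw [← hinv w hw', mul_smul, mul_smul, hzinv, hq, h1, hq']
    have h3 : (w * w) • q = q := by
      rw [mul_smul, h1, ← h2, smul_inv_smul]
    have hw1 : w = 1 := hsqr w hw' (hfree q _ (mul_mem hw' hw') h3)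
    obtain rfl : q' = q := by rw [← h1, hw1, one_smul]
    have hab : a = b := Subtype.ext (inv_mul_eq_one.1 (hw ▸ hw1)).symm
    subst hab
    rfl
  obtain ⟨h4', hle'⟩ := four_dvd_moved hG (α := G ⧸ H) hz2
  have h10 : Nat.card (G ⧸ H) = 10 := hH
  rw [h10] at h4'
  have hfix2 : Nat.card {q : G ⧸ H // z • q = q} = 2 := by omega
  obtain ⟨q, hq⟩ := exists_fixed_of_sq (σ := MulAction.toPermHom G (G ⧸ H) x)
    (by rw [← Nat.card_eq_fintype_card]; exact h10)
    (hom_comm_trivial hG (Equiv.Perm.sign.comp (MulAction.toPermHom G (G ⧸ H))) x)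
    (by rw [← map_pow, hx4, map_one])
    (by rw [← hfix2]; exact Nat.card_congr (Equiv.subtypeEquivRight fun b => by
      show x • x • b = b ↔ z • b = b
      rw [hz, mul_smul]))
  change x • q = q at hq
  induction q using QuotientGroup.induction_on with
  | H g =>
    rw [MulAction.Quotient.smul_coe, eq_comm, QuotientGroup.eq, smul_eq_mul] at hq
    exact ⟨g⁻¹, by rwa [inv_inv, mul_assoc]⟩

/-- There is no simple group of order 720. -/
theorem false_seven_twenty (hG : ¬ IsMulCommutative G) (h : Nat.card G = 720) : False := by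
  classical
  have : Fact (Nat.Prime 3) := ⟨Nat.prime_three⟩
  have : Fact (Nat.Prime 2) := ⟨Nat.prime_two⟩
  have : Fact (Nat.Prime 5) := ⟨by norm_num⟩
  obtain ⟨x, hx4, hxC, hfix⟩ := exists_four hG h
  have hall : ∀ R : Sylow 3 G, Nat.card (R : Subgroup G) = 3 ^ 2 := fun R =>
    sylow_card_eq R (m := 80) (by rw [h]; norm_num) (by norm_num)
  have hcomm : ∀ (R : Sylow 3 G) {a b : G}, a ∈ (R : Subgroup G) → b ∈ (R : Subgroup G) → a * b = b * a :=
    fun R a b ha hb => congrArg Subtype.val
      (IsPGroup.commutative_of_card_eq_prime_sq (p := 3) (hall R) ⟨a, ha⟩ ⟨b, hb⟩)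
  by_cases hti : ∀ R S : Sylow 3 G, R ≠ S → ∀ d, d ∈ (R : Subgroup G) → d ∈ (S : Subgroup G) → d = 1
  · have hmod : Nat.card (Sylow 3 G) ≡ 1 [MOD 3 ^ 2] := by
      by_contra hm
      obtain ⟨R, S, d, hRS, hd, hdR, hdS⟩ := exists_mem_two_sylows hall hm
      rw [hti R S hRS d hdR hdS, orderOf_one] at hd
      omega
    obtain ⟨hd, -, hne⟩ := card_sylow_mem (q := 2) (p := 3) (k := 2) (m := 80)
      (by rw [h]; norm_num : Nat.card G = 3 ^ 2 * 80) (by norm_num) Nat.prime_two (by norm_num) (by norm_num)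
    have hmem := Nat.mem_divisors.2 ⟨hd, (by norm_num : (80 : ℕ) ≠ 0)⟩
    rw [show (80 : ℕ).divisors = ({1, 2, 4, 5, 8, 10, 16, 20, 40, 80} : Finset ℕ) from by decide +kernel] at hmem
    simp only [Finset.mem_insert, Finset.mem_singleton] at hmem
    have hmod' : Nat.card (Sylow 3 G) % 9 = 1 := hmod
    have hn : Nat.card (Sylow 3 G) = 10 := by omega
    have hyp : SylowZassenhaus.Hyp G 3 2 3 :=
      ⟨Nat.prime_three, hG, by rw [h]; norm_num, by rw [hn]; norm_num, hall, hti,
        fun j h1 h2 => by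
          obtain rfl : j = 1 := by omega
          norm_num⟩
    have := SylowZassenhaus.two_mul_eq hyp (by norm_num)
    norm_num at this
  push Not at hti
  obtain ⟨R, S, hRS, d, hdR, hdS, hd⟩ := hti
  have hd9 : d ^ 9 = 1 := orderOf_dvd_iff_pow_eq_one.1 ((Subgroup.orderOf_dvd_natCard _ hdR).trans (by rw [hall]; rfl))
  set K := centralizer ({d} : Set G) with hK
  -- no conjugate of `x * x` commutes with `d`
  have hbad : ∀ g : G, (g * x * g⁻¹) * (g * x * g⁻¹) ∉ K := by
    intro g hg
    have h1 : g⁻¹ * d * g ∈ centralizer ({x * x} : Set G) := by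
      rw [mem_centralizer_singleton_iff]
      have := mem_centralizer_singleton_iff.1 hg
      calc g⁻¹ * d * g * (x * x) = g⁻¹ * (d * ((g * x * g⁻¹) * (g * x * g⁻¹))) * g := by group
        _ = g⁻¹ * (((g * x * g⁻¹) * (g * x * g⁻¹)) * d) * g := by rw [this]
        _ = x * x * (g⁻¹ * d * g) := by group
    have h2 := Subgroup.orderOf_dvd_natCard _ h1
    have h2' : orderOf d ∣ 16 := by
      rw [hxC, show g⁻¹ * d * g = g⁻¹ * d * (g⁻¹)⁻¹ by group, orderOf_conj_eq] at h2
      exact h2
    exact hd (orderOf_eq_one_iff.1 (Nat.eq_one_of_dvd_coprimes (by norm_num) h2'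
      (orderOf_dvd_of_pow_eq_one hd9)))
  have hle : ∀ T : Sylow 3 G, d ∈ (T : Subgroup G) → (T : Subgroup G) ≤ K := fun T hT a ha =>
    mem_centralizer_singleton_iff.2 (hcomm T ha hT)
  have hKtop : K ≠ ⊤ := fun e => hd (by
    have hc : d ∈ center G := mem_center_iff.2 fun g =>
      mem_centralizer_singleton_iff.1 (e.ge (mem_top g) : g ∈ K)
    rcases (inferInstance : (center G).Normal).eq_bot_or_eq_top with h' | h'
    · rwa [h', mem_bot] at hc
    · exact absurd ⟨⟨fun a b => (mem_center_iff.1 (h' ▸ mem_top b : b ∈ center G)) a⟩⟩ hG)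
  let R₁ : Sylow 3 K := R.subtype (hle R hdR)
  have hn1 : 1 < Nat.card (Sylow 3 K) := Finite.one_lt_card_iff_nontrivial.2
    ⟨R₁, S.subtype (hle S hdS), fun e => hRS (Sylow.subtype_injective e)⟩
  have hmodK : Nat.card (Sylow 3 K) % 3 = 1 := card_sylow_modEq_one 3 K
  have hR₁ : Nat.card (R₁ : Subgroup K) = 9 :=
    (Nat.card_congr (subgroupOfEquivOfLe (hle R hdR)).toEquiv).trans ((hall R).trans (by norm_num))
  obtain ⟨k, hk⟩ : 9 ∣ Nat.card K := hR₁ ▸ card_subgroup_dvd_card _
  have hKi := K.card_mul_index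
  rw [h, hk] at hKi
  have hki : k * K.index = 80 := by
    rw [mul_assoc] at hKi
    omega
  have h8 := index_ge_eight hG h K hKtop
  have hnk : Nat.card (Sylow 3 K) ∣ k := card_sylow_dvd_of_card_eq (k := 2) (by rw [hk]; norm_num)
  have hk10 : k ≤ 10 := by nlinarith
  have hk0 : 0 < k := Nat.pos_of_ne_zero fun e => by rw [e] at hki; omega
  have hkdiv : k ∣ 80 := ⟨K.index, hki.symm⟩
  have hkcases : k = 4 ∨ k = 8 ∨ k = 10 := by
    have hn4 : 4 ≤ Nat.card (Sylow 3 K) := by omega
    have := Nat.le_of_dvd hk0 hnk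
    have hk5 : k ≠ 5 := fun e => by
      subst e
      rcases (Nat.dvd_prime (by norm_num)).1 hnk with e | e <;> omega
    interval_cases k <;> (try norm_num at hkdiv ⊢) <;> omega
  rcases hkcases with rfl | rfl | rfl
  rotate_left
  · obtain ⟨g, hg⟩ := hfix K (by omega)
    exact hbad g (mul_mem hg hg)
  · obtain ⟨y, hy⟩ := exists_prime_orderOf_dvd_card' (G := K) 5 (by rw [hk]; norm_num)
    have h5 := pow_five_eq_one hG h (y := (y : G)) (v := d) (by rw [Subgroup.orderOf_coe, hy])
      (mem_centralizer_singleton_iff.1 y.2).symm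
    exact hd (orderOf_eq_one_iff.1 (Nat.eq_one_of_dvd_coprimes (by norm_num)
      (orderOf_dvd_of_pow_eq_one h5) (orderOf_dvd_of_pow_eq_one hd9)))
  -- `K` has order 36
  have hn4 : Nat.card (Sylow 3 K) = 4 := by
    have := Nat.le_of_dvd (by norm_num) hnk
    omega
  have hN9 : Nat.card (normalizer ((R₁ : Subgroup K) : Set K)) = 9 := by
    have := card_normalizer_mul_card_sylow R₁
    rw [hn4, hk] at this
    omega
  have hNeq : (R₁ : Subgroup K) = normalizer ((R₁ : Subgroup K) : Set K) :=
    eq_of_le_of_card_ge le_normalizer (by rw [hR₁, hN9])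
  have hNC : normalizer ((R₁ : Subgroup K) : Set K) ≤ centralizer ((R₁ : Subgroup K) : Set K) := fun a ha =>
    mem_centralizer_iff.2 fun b hb => Subtype.ext (hcomm R hb (hNeq.ge ha))
  have hc := MonoidHom.ker_transferSylow_isComplement' R₁ hNC
  set V₀ := (MonoidHom.transferSylow R₁ hNC).ker with hV₀
  set V := V₀.map K.subtype with hV
  have hV4 : Nat.card V = 4 := by
    rw [hV, card_map_of_injective K.subtype_injective]
    have := hc.card_mul
    rw [hR₁, hk] at this
    omega
  have hKV : K ≤ normalizer (V : Set G) := by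
    intro a ha
    refine le_normalizer_map K.subtype ⟨⟨a, ha⟩, ?_, rfl⟩
    rw [normalizer_eq_top (H := V₀)]
    exact mem_top _
  have hVK : V ≤ K := map_subtype_le V₀
  obtain ⟨T, hT8, hVT⟩ := Sylow.exists_subgroup_card_pow_succ (p := 2) (n := 2)
    (by rw [h]; norm_num) (hV4.trans (by norm_num))
  have hVn : (V.subgroupOf T).Normal := normal_of_index_eq_two (by
    have := (V.subgroupOf T).card_mul_index
    rw [Nat.card_congr (subgroupOfEquivOfLe hVT).toEquiv, hV4, hT8] at this
    omega)
  have h72 : 72 ∣ Nat.card (normalizer (V : Set G)) :=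
    Nat.Coprime.mul_dvd_of_dvd_of_dvd (m := 9) (n := 8) (by norm_num)
      ((Dvd.intro 4 rfl : 9 ∣ 9 * 4).trans (hk ▸ card_dvd_of_le hKV))
      ((hT8.symm.trans rfl).dvd.trans (card_dvd_of_le ((normal_subgroupOf_iff_le_normalizer hVT).1 hVn)))
  have hNtop : normalizer (V : Set G) ≠ ⊤ := fun e => by
    rcases (normalizer_eq_top_iff.1 e).eq_bot_or_eq_top with e1 | e1
    · rw [e1, card_bot] at hV4; omega
    · rw [e1, card_top, h] at hV4; omega
  set M := normalizer (V : Set G) with hM
  have hM10 : M.index = 10 ∧ Nat.card M = 72 := by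
    have h1 := M.card_mul_index
    rw [h] at h1
    have h8' := index_ge_eight hG h M hNtop
    obtain ⟨r, hr⟩ := h72
    rw [hr, mul_assoc] at h1
    have h2 : r * M.index = 10 := by omega
    have : r = 1 := by
      have h3 : r ≤ 1 := by nlinarith
      rcases Nat.le_one_iff_eq_zero_or_eq_one.1 h3 with e | e
      · rw [e, zero_mul] at h2; omega
      · exact e
    subst this
    exact ⟨by omega, hr⟩
  obtain ⟨g, hg⟩ := hfix M hM10.1
  set w := g * x * g⁻¹ with hw
  have hw4 : w ^ 4 = 1 := by rw [hw, conj_pow, hx4]; group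
  set H := centralizer (V : Set G) with hH
  have hHM : H ≤ M := centralizer_le_normalizer _
  have hww : w * w ∈ H := sq_mem_centralizer_of_card_four hV4 hg hw4
  -- `A = H ⊓ K` has order twelve
  set A := H ⊓ K with hA
  have hVc : V ≤ H := by
    intro a ha
    exact mem_centralizer_iff.2 fun b hb => congrArg Subtype.val
      (IsPGroup.commutative_of_card_eq_prime_sq (p := 2) (hV4.trans (by norm_num)) ⟨b, hb⟩ ⟨a, ha⟩)
  have hdH : d ∈ H := mem_centralizer_iff.2 fun b hb => mem_centralizer_singleton_iff.1 (hVK hb)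
  have hA12 : Nat.card A = 12 := by
    have h4 : 4 ∣ Nat.card A := hV4 ▸ card_dvd_of_le (le_inf hVc hVK)
    have h36 : Nat.card A ∣ 36 := (card_dvd_of_le inf_le_right).trans (dvd_of_eq hk)
    have h3 : 3 ∣ Nat.card A := by
      have ho : orderOf d ∣ Nat.card A := Subgroup.orderOf_dvd_natCard _
        (show d ∈ A from ⟨hdH, mem_centralizer_singleton_iff.2 rfl⟩)
      obtain ⟨i, hi, hio⟩ := (Nat.dvd_prime_pow Nat.prime_three).1
        (show orderOf d ∣ 3 ^ 2 from orderOf_dvd_of_pow_eq_one hd9)
      rcases i with _ | i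
      · exact absurd (orderOf_eq_one_iff.1 hio) hd
      · exact (dvd_pow_self 3 (Nat.succ_ne_zero i)).trans (hio ▸ ho)
    have hne36 : Nat.card A ≠ 36 := fun e => by
      have hAK : A = K := eq_of_le_of_card_ge inf_le_right (by rw [e, hk])
      have hVR : V₀ ≤ (R₁ : Subgroup K) := by
        intro a ha
        refine hNeq.ge (centralizer_le_normalizer _ (mem_centralizer_iff.2 fun b _ => Subtype.ext ?_))
        have hbH : (b : G) ∈ H := (hAK.ge b.2).1
        exact (mem_centralizer_iff.1 hbH (a : G) ⟨a, ha, rfl⟩).symm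
      have := card_dvd_of_le hVR
      rw [hR₁, ← card_map_of_injective K.subtype_injective, ← hV, hV4] at this
      norm_num at this
    have hle36 := Nat.le_of_dvd (by norm_num) h36
    obtain ⟨r, hr⟩ := Nat.Coprime.mul_dvd_of_dvd_of_dvd (m := 3) (n := 4) (by norm_num) h3 h4
    have hr0 : 0 < r := Nat.pos_of_ne_zero fun e => by rw [e, mul_zero] at hr; exact Nat.card_pos.ne' hr
    rw [hr] at h36 hne36 hle36 ⊢
    have hr3 : r ≤ 3 := by omega
    interval_cases r <;> omega
  have hwA : w * w ∉ A := fun hh => hbad g hh.2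
  have hHA : Nat.card H = 24 := by
    have h1 := card_mul_index (A.subgroupOf H)
    rw [Nat.card_congr (subgroupOfEquivOfLe inf_le_left).toEquiv, hA12, ← relIndex, hA,
      inf_relIndex_left] at h1
    have h2 : K.relIndex M = 2 := by
      have := card_mul_index (K.subgroupOf M)
      rw [Nat.card_congr (subgroupOfEquivOfLe hKV).toEquiv, hk, hM10.2, ← relIndex] at this
      omega
    have h3 : K.relIndex H ≤ 2 := h2 ▸ relIndex_le_of_le_right hHM (by rw [h2]; norm_num)
    have h4 : K.relIndex H ≠ 0 := fun e => by rw [e, mul_zero] at h1; exact Nat.card_pos.ne h1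
    have h5 : K.relIndex H ≠ 1 := fun e => hwA ⟨hww, relIndex_eq_one.1 e hww⟩
    rw [show K.relIndex H = 2 by omega] at h1
    omega
  have hwH : w ∈ H := by
    let f := V.normalizerMonoidHom
    have hr : Nat.card f.range = 3 := by
      have := card_mul_index f.ker
      rw [Subgroup.index_ker, normalizerMonoidHom_ker,
        Nat.card_congr (subgroupOfEquivOfLe (centralizer_le_normalizer _)).toEquiv, show Nat.card ↥(centralizer (V : Set G)) = 24 from hHA,
        show Nat.card ↥(normalizer (V : Set G)) = 72 from hM10.2] at this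
      omega
    have h1 : orderOf (f ⟨w, hg⟩) ∣ 3 :=
      hr ▸ Subgroup.orderOf_dvd_natCard f.range (MonoidHom.mem_range.2 ⟨_, rfl⟩)
    have h2 : orderOf (f ⟨w, hg⟩) ∣ 4 := orderOf_dvd_of_pow_eq_one (by
      rw [← map_pow, show (⟨w, hg⟩ : M) ^ 4 = 1 from Subtype.ext hw4, map_one])
    have h3 : (⟨w, hg⟩ : M) ∈ f.ker := orderOf_eq_one_iff.1 (Nat.eq_one_of_dvd_coprimes (by norm_num) h1 h2)
    rw [normalizerMonoidHom_ker, mem_subgroupOf] at h3
    exact h3
  have hi2 : (A.subgroupOf H).index = 2 := by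
    have := card_mul_index (A.subgroupOf H)
    rw [Nat.card_congr (subgroupOfEquivOfLe inf_le_left).toEquiv, hA12, hHA] at this
    omega
  exact hwA (Subgroup.mul_self_mem_of_index_two hi2 (⟨w, hwH⟩ : H))

end CfsgLib.TwoGroups.SmallOrders
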