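import Cfsg.Agent.Lib.TwoGroups.SmallOrders.SylowZassenhaus

/-!
Owner: helper12. There is no simple group of order 612: it would be a Zassenhaus group on eighteen points
with two-point stabilisers of order two.
-/

set_option autoImplicit false

namespace CfsgLib.TwoGroups.SmallOrders

open Subgroup CfsgLib.Perm

variable {G : Type*} [Group G] [Finite G] [IsSimpleGroup G]

theorem false_six_twelve (hG : ¬ IsMulCommutative G) (h : Nat.card G = 612) : False := by
  have : Fact (Nat.Prime 17) := ⟨by norm_num⟩
  have hall : ∀ R : Sylow 17 G, Nat.card (R : Subgroup G) = 17 ^ 1 := fun R =>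
    sylow_card_eq R (m := 36) (by rw [h]; norm_num) (by norm_num)
  obtain ⟨hd, hmod, hne⟩ := card_sylow_mem (q := 2) (p := 17) (k := 1) (m := 36)
    (by rw [h]; norm_num : Nat.card G = 17 ^ 1 * 36) (by norm_num) Nat.prime_two (by norm_num) (by norm_num)
  have hle := Nat.le_of_dvd (by norm_num) hd
  have hn : Nat.card (Sylow 17 G) = 18 := by
    have h35 : Nat.card (Sylow 17 G) ≠ 35 := fun e => by rw [e] at hd; norm_num at hd
    omega
  have hti : ∀ R S : Sylow 17 G, R ≠ S → ∀ d, d ∈ (R : Subgroup G) → d ∈ (S : Subgroup G) → d = 1 := by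
    intro R S hRS d hR hS
    by_contra hd1
    refine hRS (eq_of_smul_eq S (by rw [hall, pow_one]) hS hd1 (smul_eq_of_mem hR))
  have hyp : SylowZassenhaus.Hyp G 17 1 1 :=
    ⟨by norm_num, hG, by rw [h]; norm_num, by rw [hn]; norm_num, hall, hti, fun j h1 h2 => by omega⟩
  have := SylowZassenhaus.two_mul_eq hyp one_ne_zero
  norm_num at this

end CfsgLib.TwoGroups.SmallOrders
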