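import Cfsg.Agent.Lib.TwoGroups.SmallOrders.Easy
import Cfsg.Agent.Lib.Perm.PrimeOrderCount

/-!
Owner: helper12. There is no simple group of order 1040: the classes of involutions normalising
Sylow 5- and 13-subgroups are too large.
-/

set_option autoImplicit false

namespace CfsgLib.TwoGroups.SmallOrders

open Subgroup MulAction CfsgLib.Perm
open scoped Pointwise

variable {G : Type*} [Group G] [Finite G] [IsSimpleGroup G]

theorem isConj_mul_self {z v : G} (hz : z * z = 1) (h : IsConj z v) : v * v = 1 := by
  obtain ⟨g, hg⟩ := isConj_iff.1 h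
  rw [← hg]
  calc g * z * g⁻¹ * (g * z * g⁻¹) = g * (z * z) * g⁻¹ := by group
    _ = 1 := by rw [hz]; group

/-- An involution squared to one in a group of odd prime order is trivial. -/
theorem eq_one_of_sq_of_mem {p : ℕ} (hp : p.Prime) (hp2 : p ≠ 2) {H : Subgroup G} (hH : Nat.card H = p)
    {a : G} (ha : a ∈ H) (h : a * a = 1) : a = 1 :=
  orderOf_eq_one_iff.1 (Nat.eq_one_of_dvd_coprimes ((Nat.coprime_primes Nat.prime_two hp).2 (Ne.symm hp2))
    (orderOf_dvd_of_pow_eq_one (by rw [pow_two]; exact h)) (hH ▸ Subgroup.orderOf_dvd_natCard H ha))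

theorem sylow_five_ten_forty (hG : ¬ IsMulCommutative G) (h : Nat.card G = 1040) [Fact (Nat.Prime 5)]
    (P : Sylow 5 G) :
    Nat.card (P : Subgroup G) = 5 ∧ Nat.card (Sylow 5 G) = 26 ∧
      Nat.card (normalizer ((P : Subgroup G) : Set G)) = 40 ∧
      (Nat.card (centralizer ((P : Subgroup G) : Set G)) = 10 ∨
        Nat.card (centralizer ((P : Subgroup G) : Set G)) = 20) := by
  have hP : Nat.card (P : Subgroup G) = 5 := by
    rw [sylow_card_eq P (k := 1) (m := 208) (by rw [h]; norm_num) (by norm_num), pow_one]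
  obtain ⟨hd, hmod, hne⟩ := card_sylow_mem (q := 2) (p := 5) (k := 1) (m := 208)
    (by rw [h]; norm_num : Nat.card G = 5 ^ 1 * 208) (by norm_num) Nat.prime_two (by norm_num) (by norm_num)
  have hmem := Nat.mem_divisors.2 ⟨hd, (by norm_num : (208 : ℕ) ≠ 0)⟩
  rw [show (208 : ℕ).divisors = ({1, 2, 4, 8, 13, 16, 26, 52, 104, 208} : Finset ℕ) from by decide +kernel] at hmem
  simp only [Finset.mem_insert, Finset.mem_singleton] at hmem
  have hN := card_normalizer_mul_card_sylow P
  have hne5 : ¬ IsPGroup 5 G := not_isPGroup_of_dvd Nat.prime_two (by norm_num) (by rw [h]; norm_num)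
  rcases (show Nat.card (Sylow 5 G) = 16 ∨ Nat.card (Sylow 5 G) = 26 by omega) with e | e
  · exfalso
    rw [e, h] at hN
    exact false_of_normalizer_coprime P hP hne5 (a := 13) (by omega) (by norm_num)
  rw [e, h] at hN
  obtain ⟨r, hra, hr4, hr1, hC⟩ := exists_card_centralizer P hP hne5 (a := 8) (by omega)
  refine ⟨hP, e, by omega, ?_⟩
  have := Nat.le_of_dvd (by norm_num) hr4
  interval_cases r <;> omega

/-- The centraliser of an element centralising a Sylow 5-subgroup has at most forty elements. -/
theorem card_centralizer_le_forty (hG : ¬ IsMulCommutative G) (h : Nat.card G = 1040) [Fact (Nat.Prime 5)]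
    (P : Sylow 5 G) {z : G} (hz : z ≠ 1)
    (h20 : 10 ∣ Nat.card ↥(centralizer ((P : Subgroup G) : Set G) ⊓ centralizer ({z} : Set G)))
    (hP : (P : Subgroup G) ≤ centralizer ({z} : Set G)) :
    Nat.card (centralizer ({z} : Set G)) ≤ 40 := by
  obtain ⟨hP5, -, hN40, -⟩ := sylow_five_ten_forty hG h P
  set K := centralizer ({z} : Set G) with hK
  have hKtop : K ≠ ⊤ := fun e => hz (by
    have hc : z ∈ center G := mem_center_iff.2 fun g =>
      mem_centralizer_singleton_iff.1 (e.ge (mem_top g) : g ∈ K)
    rcases (inferInstance : (center G).Normal).eq_bot_or_eq_top with h' | h'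
    · rwa [h', mem_bot] at hc
    · exact absurd ⟨⟨fun a b => (mem_center_iff.1 (h' ▸ mem_top b : b ∈ center G)) a⟩⟩ hG)
  have h13 : 13 ≤ K.index := by
    by_contra hlt
    have h5 := two_mul_card_dvd_factorial_of_index_le hG K hKtop (m := 12) (by omega)
    rw [h] at h5
    norm_num [Nat.factorial] at h5
  have hKi := K.card_mul_index
  rw [h] at hKi
  have hK80 : Nat.card K ≤ 80 := by
    have : Nat.card K * 13 ≤ 1040 := hKi ▸ Nat.mul_le_mul_left _ h13
    omega
  by_contra hgt
  -- then `K` has order eighty and normalises `P`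
  let P' : Sylow 5 K := P.subtype hP
  have hn := card_normalizer_mul_card_sylow P'
  have hmod : Nat.card (Sylow 5 K) % 5 = 1 := card_sylow_modEq_one 5 K
  have h10 : 10 ∣ Nat.card (normalizer ((P' : Subgroup K) : Set K)) := by
    refine h20.trans ?_
    have hle : (centralizer ((P : Subgroup G) : Set G) ⊓ K).subgroupOf K ≤
        normalizer ((P' : Subgroup K) : Set K) := fun a ha => by
      refine centralizer_le_normalizer _ (mem_centralizer_iff.2 fun b hb => Subtype.ext ?_)
      exact (mem_centralizer_iff.1 (mem_subgroupOf.1 ha).1) (b : G) hb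
    exact (Nat.card_congr (subgroupOfEquivOfLe (H := centralizer ((P : Subgroup G) : Set G) ⊓ K) (K := K)
      inf_le_right).toEquiv).symm.dvd.trans (card_dvd_of_le hle)
  have hle8 : Nat.card (Sylow 5 K) ≤ 8 := by
    have := Nat.le_of_dvd Nat.card_pos h10
    have : 10 * Nat.card (Sylow 5 K) ≤ 80 := le_trans (Nat.mul_le_mul_right _ this) (hn.le.trans hK80)
    omega
  have hne6 : Nat.card (Sylow 5 K) ≠ 6 := fun e => by
    have h6 : 6 ∣ 1040 := (Dvd.intro_left _ (e ▸ hn) : 6 ∣ Nat.card K).trans ⟨K.index, hKi.symm⟩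
    norm_num at h6
  have h1 : Nat.card (Sylow 5 K) = 1 := by omega
  rw [h1, mul_one] at hn
  have hle40 : Nat.card (normalizer ((P' : Subgroup K) : Set K)) ≤ 40 := by
    rw [← hN40, ← card_map_of_injective K.subtype_injective]
    refine Nat.le_of_dvd Nat.card_pos (card_dvd_of_le ((le_normalizer_map _).trans (le_of_eq ?_)))
    show normalizer ((((P : Subgroup G).subgroupOf K).map K.subtype : Subgroup G) : Set G) = _
    rw [subgroupOf_map_subtype, inf_eq_left.2 hP]
  omega

/-- There is no simple group of order 1040. -/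
theorem false_ten_forty (hG : ¬ IsMulCommutative G) (h : Nat.card G = 1040) : False := by
  classical
  have : Fact (Nat.Prime 13) := ⟨by norm_num⟩
  have : Fact (Nat.Prime 5) := ⟨by norm_num⟩
  have : Fact (Nat.Prime 2) := ⟨Nat.prime_two⟩
  obtain ⟨Q⟩ := (inferInstance : Nonempty (Sylow 13 G))
  have hQ : Nat.card (Q : Subgroup G) = 13 := by
    rw [sylow_card_eq Q (k := 1) (m := 80) (by rw [h]; norm_num) (by norm_num), pow_one]
  obtain ⟨hd, hmod, hne⟩ := card_sylow_mem (q := 2) (p := 13) (k := 1) (m := 80)
    (by rw [h]; norm_num : Nat.card G = 13 ^ 1 * 80) (by norm_num) Nat.prime_two (by norm_num) (by norm_num)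
  have hmem := Nat.mem_divisors.2 ⟨hd, (by norm_num : (80 : ℕ) ≠ 0)⟩
  rw [show (80 : ℕ).divisors = ({1, 2, 4, 5, 8, 10, 16, 20, 40, 80} : Finset ℕ) from by decide +kernel] at hmem
  simp only [Finset.mem_insert, Finset.mem_singleton] at hmem
  have hn13 : Nat.card (Sylow 13 G) = 40 := by omega
  have hNQ : Nat.card (normalizer ((Q : Subgroup G) : Set G)) = 26 := by
    have := card_normalizer_mul_card_sylow Q
    rw [hn13, h] at this
    omega
  obtain ⟨r, hra, -, hr1, hCQ⟩ := exists_card_centralizer Q hQ
    (not_isPGroup_of_dvd Nat.prime_two (by norm_num) (by rw [h]; norm_num)) (a := 2) (by omega)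
  rcases (Nat.dvd_prime Nat.prime_two).1 hra with rfl | rfl
  · exact hr1 rfl
  -- the involution `w` inverting `Q`
  obtain ⟨w', hw'⟩ := exists_prime_orderOf_dvd_card' (G := normalizer ((Q : Subgroup G) : Set G)) 2
    (by rw [hNQ]; norm_num)
  set w : G := (w' : G) with hwdef
  have hw : orderOf w = 2 := (Subgroup.orderOf_coe w').trans hw'
  have hw2 : w * w = 1 := by rw [← pow_two, ← hw, pow_orderOf_eq_one]
  have hwinv : w⁻¹ = w := inv_eq_of_mul_eq_one_right hw2
  have hwQ : w • Q = Q := Sylow.smul_eq_iff_mem_normalizer.2 w'.2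
  have hwC : w ∉ centralizer ((Q : Subgroup G) : Set G) := fun hh => by
    have := Subgroup.orderOf_dvd_natCard _ hh
    rw [hw, show Nat.card (centralizer ((Q : Subgroup G) : Set G)) = 13 by omega] at this
    omega
  have hFw : Nat.card (fixedSylows 13 w) = 4 := by
    have hle := card_fixedSylows_le Q hQ hwQ hwC
    obtain ⟨h4, -⟩ := card_fixedSylows_four (p := 13) hG hw2
    have : 0 < Nat.card (fixedSylows 13 w) := Nat.card_pos_iff.2 ⟨⟨⟨Q, hwQ⟩⟩, inferInstance⟩
    rw [hn13] at hle h4
    omega
  -- it has 130 conjugates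
  have hclassw : Nat.card {v : G // IsConj w v} = 130 := by
    have hinc := card_class_incidence w Q
    rw [hn13, hFw] at hinc
    have hcnt : Nat.card {v : G // IsConj w v ∧ v • Q = Q} = 13 := by
      have hidx : ((Q : Subgroup G).subgroupOf (normalizer ((Q : Subgroup G) : Set G))).index = 2 := by
        have := card_mul_index ((Q : Subgroup G).subgroupOf (normalizer ((Q : Subgroup G) : Set G)))
        rw [Nat.card_congr (subgroupOfEquivOfLe le_normalizer).toEquiv, hQ, hNQ] at this
        omega
      have hnotQ : ∀ v : G, IsConj w v → v ∉ (Q : Subgroup G) := fun v hv hvQ => by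
        have h1 := eq_one_of_sq_of_mem (by norm_num) (by norm_num) hQ hvQ (isConj_mul_self hw2 hv)
        obtain ⟨g, hg⟩ := isConj_iff.1 hv
        rw [h1, conj_eq_one_iff] at hg
        rw [hg, orderOf_one] at hw
        omega
      refine le_antisymm (le_trans (Nat.card_le_card_of_injective (fun v => (⟨w * v.1, ?_⟩ : (Q : Subgroup G)))
        fun a b e => Subtype.ext (mul_left_cancel (congrArg Subtype.val e))) hQ.le) ?_
      · have h1 := (Subgroup.mul_mem_iff_of_index_two hidx (a := w')
          (b := ⟨v.1, Sylow.smul_eq_iff_mem_normalizer.1 v.2.2⟩)).2 (iff_of_false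
            (fun e => hnotQ w (IsConj.refl w) (mem_subgroupOf.1 e))
            (fun e => hnotQ v.1 v.2.1 (mem_subgroupOf.1 e)))
        exact mem_subgroupOf.1 h1
      · refine le_trans hQ.ge (Nat.card_le_card_of_injective (fun a : (Q : Subgroup G) =>
          (⟨(a : G) * w * (a : G)⁻¹, isConj_iff.2 ⟨a, rfl⟩, ?_⟩ : {v : G // IsConj w v ∧ v • Q = Q}))
          fun a b e => ?_)
        · rw [mul_smul, mul_smul, smul_eq_of_mem ((Q : Subgroup G).inv_mem a.2), hwQ, smul_eq_of_mem a.2]
        · have e' : (a : G) * w * (a : G)⁻¹ = (b : G) * w * (b : G)⁻¹ := congrArg Subtype.val e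
          set u : G := (b : G)⁻¹ * a with hu
          have hu' : u ∈ (Q : Subgroup G) := mul_mem (inv_mem b.2) a.2
          have huw : w * u = u * w := by
            calc w * u = (b : G)⁻¹ * ((b : G) * w * (b : G)⁻¹) * a := by rw [hu]; group
              _ = (b : G)⁻¹ * ((a : G) * w * (a : G)⁻¹) * a := by rw [e']
              _ = u * w := by rw [hu]; group
          by_contra hab
          refine hwC ?_
          rw [(eq_zpowers_of_mem_sylow Q hQ hu' (fun e1 => hab (Subtype.ext (inv_mul_eq_one.1 e1).symm))).2,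
            mem_centralizer_iff]
          rintro _ ⟨i, rfl⟩
          exact ((show Commute w u from huw).zpow_right i).eq.symm
    omega
  have hCw : Nat.card (centralizer ({w} : Set G)) = 8 := by
    have := card_isConj_mul_card_centralizer w
    rw [hclassw, h] at this
    omega
  obtain ⟨P⟩ := (inferInstance : Nonempty (Sylow 5 G))
  obtain ⟨hP, hn5, hN40, hC⟩ := sylow_five_ten_forty hG h P
  set C := centralizer ((P : Subgroup G) : Set G) with hCdef
  obtain ⟨y', hy'⟩ := exists_prime_orderOf_dvd_card' (G := (P : Subgroup G)) 5 (by rw [hP])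
  set y : G := (y' : G) with hydef
  have hy : orderOf y = 5 := (Subgroup.orderOf_coe y').trans hy'
  have hy1 : y ≠ 1 := fun e => by rw [e, orderOf_one] at hy; omega
  have hPz := (eq_zpowers_of_mem_sylow P hP y'.2 hy1).2
  have hPC : (P : Subgroup G) ≤ C := fun a ha => mem_centralizer_iff.2 fun b hb => by
    rw [hPz] at ha hb
    obtain ⟨i, rfl⟩ := ha
    obtain ⟨j, rfl⟩ := hb
    exact ((Commute.refl y).zpow_zpow j i).eq
  rcases hC with hC | hC
  · -- two classes of involutions in a normaliser of order forty
    obtain ⟨z', hz'⟩ := exists_prime_orderOf_dvd_card' (G := C) 2 (by rw [hC]; norm_num)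
    set z : G := (z' : G) with hzdef
    have hz : orderOf z = 2 := (Subgroup.orderOf_coe z').trans hz'
    have hz2 : z * z = 1 := by rw [← pow_two, ← hz, pow_orderOf_eq_one]
    have hzy : Commute z y := ((mem_centralizer_iff.1 z'.2) y y'.2).symm
    have h10 : orderOf (z * y) = 10 := by
      rw [hzy.orderOf_mul_eq_mul_orderOf_of_coprime (by rw [hz, hy]; norm_num), hz, hy]
    have hCz : zpowers (z * y) = C :=
      eq_of_le_of_card_ge (zpowers_le.2 (mul_mem z'.2 (hPC y'.2))) (by rw [hC, Nat.card_zpowers, h10])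
    have hcycC : IsCyclic C := hCz ▸ (inferInstance : IsCyclic (zpowers (z * y)))
    have hsolC : Nat.card {v : C // v ^ 2 = 1} ≤ 2 := by
      let _ := Fintype.ofFinite C
      rw [Nat.card_eq_fintype_card, Fintype.card_subtype]
      exact IsCyclic.card_pow_eq_one_le (by norm_num)
    -- `z` is central in the normaliser
    have hNz : normalizer ((P : Subgroup G) : Set G) ≤ centralizer ({z} : Set G) := by
      intro n hn
      rw [mem_centralizer_singleton_iff]
      have hmem : n * z * n⁻¹ ∈ C := by
        rw [hCdef, mem_centralizer_iff]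
        intro b hb
        have hb' : n⁻¹ * b * n ∈ (P : Subgroup G) := by
          have := (mem_normalizer_iff.1 (inv_mem hn) b).1 hb
          rwa [inv_inv] at this
        have := (mem_centralizer_iff.1 z'.2) _ hb'
        calc b * (n * z * n⁻¹) = n * (n⁻¹ * b * n * z) * n⁻¹ := by group
          _ = n * (z * (n⁻¹ * b * n)) * n⁻¹ := by rw [this]
          _ = _ := by group
      have : (⟨n * z * n⁻¹, hmem⟩ : C) = z' := by
        by_contra hne'
        let s : Fin 3 → {v : C // v ^ 2 = 1} := ![⟨1, one_pow 2⟩,
          ⟨z', Subtype.ext (by rw [SubmonoidClass.coe_pow, pow_two]; exact hz2)⟩,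
          ⟨⟨n * z * n⁻¹, hmem⟩, Subtype.ext (by
            rw [SubmonoidClass.coe_pow, pow_two]; exact isConj_mul_self hz2 (isConj_iff.2 ⟨n, rfl⟩))⟩]
        have hz1 : z' ≠ 1 := fun e => by rw [hzdef, e, OneMemClass.coe_one, orderOf_one] at hz; omega
        have hn1 : (⟨n * z * n⁻¹, hmem⟩ : C) ≠ 1 := fun e => by
          have h1 : n * z * n⁻¹ = 1 := congrArg Subtype.val e
          rw [conj_eq_one_iff] at h1
          rw [h1, orderOf_one] at hz
          omega
        have := (Nat.card_le_card_of_injective s (by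
          intro a b
          fin_cases a <;> fin_cases b <;>
            simp [s, hne', Ne.symm hne', hz1, Ne.symm hz1, hn1, Ne.symm hn1])).trans hsolC
        rw [Nat.card_fin] at this
        omega
      exact mul_inv_eq_iff_eq_mul.1 (congrArg Subtype.val this)
    have hK : Nat.card (centralizer ({z} : Set G)) = 40 := by
      refine le_antisymm (card_centralizer_le_forty hG h P (fun e => by rw [e, orderOf_one] at hz; omega) ?_
        (le_normalizer.trans hNz)) (hN40 ▸ Nat.le_of_dvd Nat.card_pos (card_dvd_of_le hNz))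
      rw [inf_eq_left.2 ((centralizer_le_normalizer _).trans hNz), hC]
    have hclassz : Nat.card {v : G // IsConj z v} = 26 := by
      have := card_isConj_mul_card_centralizer z
      rw [hK, h] at this
      omega
    have hzP : z • P = P := Sylow.smul_eq_iff_mem_normalizer.2 (centralizer_le_normalizer _ z'.2)
    have hFz : Nat.card (fixedSylows 5 z) % 5 = 1 := card_fixedSylows_modEq P hP z'.2
    obtain ⟨h4z, hlez⟩ := card_fixedSylows_four (p := 5) hG hz2
    obtain ⟨h4w, hlew⟩ := card_fixedSylows_four (p := 5) hG hw2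
    have hincz := card_class_incidence z P
    have hincw := card_class_incidence w P
    rw [hn5] at hincz hincw h4z hlez h4w hlew
    rw [hclassz] at hincz
    rw [hclassw] at hincw
    -- few involutions normalise `P`
    let X := {v : G // v • P = P ∧ v * v = 1}
    have hX : Nat.card X ≤ 12 := by
      by_cases hall : ∀ v : X, v.1 ∈ C
      · refine le_trans (Nat.card_le_card_of_injective
          (fun v => (⟨⟨v.1, hall v⟩, Subtype.ext (by rw [SubmonoidClass.coe_pow, pow_two]; exact v.2.2)⟩ :
            {u : C // u ^ 2 = 1})) fun a b e => Subtype.ext (congrArg (fun u => (u.1 : G)) e)) ?_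
        omega
      push Not at hall
      obtain ⟨v₀, hv₀⟩ := hall
      have hinv : ∀ v : X, v.1 ∉ C → v.1 * y * v.1⁻¹ = y⁻¹ := by
        rintro ⟨v, hvP, hv2⟩ hvC
        have hvN := Sylow.smul_eq_iff_mem_normalizer.1 hvP
        obtain ⟨i, -, hi⟩ := (isOfFinOrder_of_finite y).mem_zpowers_iff_mem_range_orderOf.1
          (hPz ▸ (mem_normalizer_iff.1 hvN y).1 y'.2) |> Finset.mem_image.1
        have hii : y ^ (i * i) = y := by
          rw [pow_mul, hi, conj_pow, hi]
          calc v * (v * y * v⁻¹) * v⁻¹ = (v * v) * y * (v * v)⁻¹ := by group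
            _ = y := by rw [hv2]; group
        have h1 : i * i % 5 = 1 := by
          have h0 : y ^ (i * i) = y ^ 1 := by rw [hii, pow_one]
          rw [pow_inj_mod, hy] at h0
          rw [h0]
        have hi5 : y ^ i = y ^ (i % 5) := by rw [← hy, pow_mod_orderOf]
        have hmod : i % 5 = 1 ∨ i % 5 = 4 := by
          have h2 := Nat.mul_mod i i 5
          have h3 : i % 5 < 5 := Nat.mod_lt _ (by norm_num)
          rw [h1] at h2
          interval_cases (i % 5) <;> omega
        rcases hmod with hm | hm
        · refine absurd ?_ hvC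
          rw [hi5, hm, pow_one] at hi
          rw [hCdef, hPz, mem_centralizer_iff]
          rintro _ ⟨j, rfl⟩
          exact ((show Commute v y from mul_inv_eq_iff_eq_mul.1 hi.symm).zpow_right j).eq.symm
        · rw [← hi, hi5, hm, eq_inv_iff_mul_eq_one, ← pow_succ, show 4 + 1 = orderOf y by rw [hy],
            pow_orderOf_eq_one]
      let f : X → {u : C // u ^ 2 = 1} ⊕ C := fun v =>
        if hv : v.1 ∈ C then
          .inl ⟨⟨v.1, hv⟩, Subtype.ext (by rw [SubmonoidClass.coe_pow, pow_two]; exact v.2.2)⟩
        else .inr ⟨v₀.1 * v.1, by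
          rw [hCdef, hPz, mem_centralizer_iff]
          rintro _ ⟨j, rfl⟩
          refine ((show Commute (v₀.1 * v.1) y from mul_inv_eq_iff_eq_mul.1 ?_).zpow_right j).eq.symm
          calc v₀.1 * v.1 * y * (v₀.1 * v.1)⁻¹ = v₀.1 * (v.1 * y * v.1⁻¹) * v₀.1⁻¹ := by group
            _ = (v₀.1 * y * v₀.1⁻¹)⁻¹ := by rw [hinv v hv]; group
            _ = y := by rw [hinv v₀ hv₀, inv_inv]⟩
      have hf : Function.Injective f := by
        intro a b e
        simp only [f] at e
        split at e <;> split at e
        · exact Subtype.ext (congrArg (fun u => (u.1 : G)) (Sum.inl.inj e))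
        · exact absurd e (by simp)
        · exact absurd e (by simp)
        · exact Subtype.ext (mul_left_cancel (congrArg Subtype.val (Sum.inr.inj e)))
      have := Nat.card_le_card_of_injective f hf
      rw [Nat.card_sum, hC] at this
      omega
    have hdisj : Nat.card {v : G // IsConj z v ∧ v • P = P} + Nat.card {v : G // IsConj w v ∧ v • P = P} ≤
        Nat.card X := by
      rw [← Nat.card_sum]
      refine Nat.card_le_card_of_injective (Sum.elim
        (fun v => (⟨v.1, v.2.2, isConj_mul_self hz2 v.2.1⟩ : X))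
        (fun v => (⟨v.1, v.2.2, isConj_mul_self hw2 v.2.1⟩ : X))) ?_
      refine Function.Injective.sumElim (fun a b e => Subtype.ext (congrArg (fun u : X => u.1) e))
        (fun a b e => Subtype.ext (congrArg (fun u : X => u.1) e)) fun a b e => ?_
      have e' : a.1 = b.1 := congrArg Subtype.val e
      have hzw : IsConj z w := a.2.1.trans (e' ▸ b.2.1).symm
      have h1 := card_isConj_mul_card_centralizer z
      have h2 : Nat.card {v : G // IsConj z v} = Nat.card {v : G // IsConj w v} :=
        Nat.card_congr (Equiv.subtypeEquivRight fun v => ⟨fun hv => hzw.symm.trans hv, fun hv => hzw.trans hv⟩)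
      omega
    omega
  · -- counting elements when the centraliser has order twenty
    let K : Sylow 2 C := default
    have hK4 : Nat.card (K : Subgroup C) = 4 := by
      rw [sylow_card_eq K (k := 2) (m := 5) (by rw [hC]; norm_num) (by norm_num)]; norm_num
    obtain ⟨z'', hz''⟩ := exists_prime_orderOf_dvd_card' (G := (K : Subgroup C)) 2 (by rw [hK4]; norm_num)
    set z : G := ((z'' : C) : G) with hzdef
    have hz : orderOf z = 2 := by rw [hzdef, Subgroup.orderOf_coe, Subgroup.orderOf_coe, hz'']
    have hz2 : z * z = 1 := by rw [← pow_two, ← hz, pow_orderOf_eq_one]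
    have hPz' : (P : Subgroup G) ≤ centralizer ({z} : Set G) := fun a ha =>
      mem_centralizer_singleton_iff.2 ((mem_centralizer_iff.1 (z'' : C).2) a ha)
    have h10 : 10 ∣ Nat.card ↥(C ⊓ centralizer ({z} : Set G)) := by
      refine (show 10 ∣ 5 * 4 by norm_num).trans
        (Nat.Coprime.mul_dvd_of_dvd_of_dvd (by norm_num) (hP ▸ card_dvd_of_le (le_inf hPC hPz')) ?_)
      rw [← hK4, ← card_map_of_injective C.subtype_injective]
      refine card_dvd_of_le (le_inf (map_subtype_le _) ?_)
      rintro _ ⟨a, ha, rfl⟩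
      exact mem_centralizer_singleton_iff.2 (congrArg (fun u => (((u : (K : Subgroup C)) : C) : G))
        (IsPGroup.commutative_of_card_eq_prime_sq (p := 2) (hK4.trans (by norm_num)) ⟨a, ha⟩ z''))
    have hK40 := card_centralizer_le_forty hG h P (fun e => by rw [e, orderOf_one] at hz; omega) h10 hPz'
    have hclassz : 26 ≤ Nat.card {v : G // IsConj z v} := by
      have h1 := card_isConj_mul_card_centralizer z
      rw [h] at h1
      by_contra hlt
      nlinarith
    -- the elements of order divisible by five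
    have hQ5 : ∀ R : Sylow 5 G, Nat.card (R : Subgroup G) = 5 := fun R => (sylow_five_ten_forty hG h R).1
    have h4sol : ∀ R : Sylow 5 G,
        4 ≤ Nat.card {b : G // b ∈ centralizer ((R : Subgroup G) : Set G) ∧ b ^ 4 = 1} := by
      intro R
      obtain ⟨g, rfl⟩ := MulAction.exists_smul_eq G P R
      refine hK4.ge.trans (Nat.card_le_card_of_injective (fun a : (K : Subgroup C) =>
        (⟨g * ((a : C) : G) * g⁻¹, ?_, ?_⟩ : {b : G // b ∈ centralizer (((g • P : Sylow 5 G) : Subgroup G) : Set G) ∧
          b ^ 4 = 1})) fun a b e => ?_)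
      · rw [mem_centralizer_iff]
        intro b hb
        have hb' : g⁻¹ * b * g ∈ (P : Subgroup G) := by
          rw [SetLike.mem_coe, Sylow.coe_subgroup_smul, Subgroup.mem_pointwise_smul_iff_inv_smul_mem] at hb
          simpa [MulAut.smul_def] using hb
        have := (mem_centralizer_iff.1 (a : C).2) _ hb'
        calc b * (g * ((a : C) : G) * g⁻¹) = g * (g⁻¹ * b * g * ((a : C) : G)) * g⁻¹ := by group
          _ = g * (((a : C) : G) * (g⁻¹ * b * g)) * g⁻¹ := by rw [this]
          _ = _ := by group
      · have h4 : a ^ 4 = 1 := by rw [← hK4]; exact pow_card_eq_one'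
        rw [conj_pow]
        have : ((a : C) : G) ^ 4 = 1 := congrArg (fun u => (((u : (K : Subgroup C)) : C) : G)) h4
        rw [this]; group
      · have e' : g * ((a : C) : G) * g⁻¹ = g * ((b : C) : G) * g⁻¹ := congrArg Subtype.val e
        exact Subtype.ext (Subtype.ext (mul_left_cancel (mul_right_cancel e')))
    let _ := Fintype.ofFinite G
    let _ := Fintype.ofFinite (Sylow 5 G)
    let S5 := {v : G // v ^ 20 = 1 ∧ v ^ 4 ≠ 1}
    have hS5 : 416 ≤ Nat.card S5 := by
      let T := Σ R : Sylow 5 G, {a : (R : Subgroup G) // a ≠ 1} ×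
        {b : G // b ∈ centralizer ((R : Subgroup G) : Set G) ∧ b ^ 4 = 1}
      have hT : 416 ≤ Nat.card T := by
        rw [Nat.card_sigma]
        refine le_trans (le_of_eq ?_) (Finset.sum_le_sum (f := fun _ : Sylow 5 G => 16) fun R _ => ?_)
        · rw [Finset.sum_const, Finset.card_univ, ← Nat.card_eq_fintype_card, hn5, smul_eq_mul]
        · rw [Nat.card_prod]
          have h4 : Nat.card {a : (R : Subgroup G) // a ≠ 1} = 4 := by
            let _ := Fintype.ofFinite (R : Subgroup G)
            rw [Nat.card_eq_fintype_card, Fintype.card_subtype_compl, Fintype.card_subtype_eq,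
              ← Nat.card_eq_fintype_card, hQ5]
          rw [h4]
          exact Nat.mul_le_mul_left 4 (h4sol R)
      have key : ∀ t : T, ((t.2.1.1 : G) * t.2.2.1) ^ 4 = (t.2.1.1 : G) ^ 4 ∧ (t.2.1.1 : G) ^ 4 ≠ 1 ∧
          (t.2.1.1 : G) ^ 5 = 1 := by
        intro t
        have h5 : (t.2.1.1 : G) ^ 5 = 1 := by
          have h5' : t.2.1.1 ^ 5 = 1 := by
            have := pow_card_eq_one' (x := t.2.1.1)
            rwa [hQ5 t.1] at this
          exact congrArg Subtype.val h5'
        refine ⟨?_, fun e4 => t.2.1.2 (Subtype.ext ?_), h5⟩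
        · rw [(show Commute (t.2.1.1 : G) t.2.2.1 from
            (mem_centralizer_iff.1 t.2.2.2.1) _ t.2.1.1.2).mul_pow, t.2.2.2.2, mul_one]
        · rw [pow_succ, e4, one_mul] at h5
          exact h5
      refine hT.trans (Nat.card_le_card_of_injective (fun t => (⟨(t.2.1.1 : G) * t.2.2.1, ?_, ?_⟩ : S5))
        fun s t e => ?_)
      · rw [show 20 = 4 * 5 by norm_num, pow_mul, (key t).1, ← pow_mul, show 4 * 5 = 5 * 4 by norm_num,
          pow_mul, (key t).2.2, one_pow]
      · rw [(key t).1]; exact (key t).2.1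
      · have e' : (s.2.1.1 : G) * s.2.2.1 = (t.2.1.1 : G) * t.2.2.1 := congrArg Subtype.val e
        have e4 : (s.2.1.1 : G) ^ 4 = (t.2.1.1 : G) ^ 4 := by rw [← (key s).1, ← (key t).1, e']
        have hR : s.1 = t.1 := by
          refine eq_of_smul_eq t.1 (hQ5 t.1) (pow_mem t.2.1.1.2 4) (key t).2.1 ?_
          rw [← e4]
          exact smul_eq_of_mem (pow_mem s.2.1.1.2 4)
        have ea : (s.2.1.1 : G) = t.2.1.1 := by
          have := congrArg (fun u => u ^ 4) e4
          simp only [← pow_mul] at this
          rwa [show 4 * 4 = 5 * 3 + 1 by norm_num, pow_succ, pow_succ _ (5 * 3), pow_mul, pow_mul,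
            (key s).2.2, (key t).2.2, one_pow, one_mul, one_mul] at this
        have eb : s.2.2.1 = t.2.2.1 := mul_left_cancel (ea ▸ e')
        obtain ⟨R, ⟨a, ha⟩, ⟨b, hb⟩⟩ := s
        obtain ⟨R', ⟨a', ha'⟩, ⟨b', hb'⟩⟩ := t
        simp only at hR ea eb
        subst hR
        obtain rfl : a = a' := Subtype.ext ea
        subst eb
        rfl
    have h13 : Nat.card {v : G // orderOf v = 13} = 480 := by
      rw [card_orderOf_eq_prime Q hQ, hn13]
    have hzw : ¬ IsConj z w := fun hzw => by
      have h1 := card_isConj_mul_card_centralizer z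
      have h2 : Nat.card {v : G // IsConj z v} = Nat.card {v : G // IsConj w v} :=
        Nat.card_congr (Equiv.subtypeEquivRight fun v => ⟨fun hv => hzw.symm.trans hv, fun hv => hzw.trans hv⟩)
      have h20 : 5 ∣ Nat.card (centralizer ({z} : Set G)) := hP ▸ card_dvd_of_le hPz'
      rw [h2, hclassw, h] at h1
      omega
    -- the five sets are disjoint
    let Y := PUnit.{1} ⊕ ({v : G // orderOf v = 13} ⊕ (S5 ⊕ ({v : G // IsConj z v} ⊕ {v : G // IsConj w v})))
    let g : Y → G := Sum.elim (fun _ => 1) (Sum.elim Subtype.val (Sum.elim Subtype.val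
      (Sum.elim Subtype.val Subtype.val)))
    have hord : ∀ {u v : G}, u * u = 1 → IsConj u v → u ≠ 1 → v ^ 4 = 1 ∧ orderOf v ≠ 13 ∧ v ≠ 1 := by
      intro u v hu hc hu1
      have h1 := isConj_mul_self hu hc
      refine ⟨?_, fun e => ?_, fun e => ?_⟩
      · rw [show 4 = 2 * 2 by norm_num, pow_mul, pow_two v, h1, one_pow]
      · have := orderOf_dvd_of_pow_eq_one (show v ^ 2 = 1 by rw [pow_two]; exact h1)
        rw [e] at this
        norm_num at this
      · obtain ⟨c, hc⟩ := isConj_iff.1 hc
        rw [e, conj_eq_one_iff] at hc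
        exact hu1 hc
    have hz1 : z ≠ 1 := fun e => by rw [e, orderOf_one] at hz; omega
    have hw1 : w ≠ 1 := fun e => by rw [e, orderOf_one] at hw; omega
    have hg : Function.Injective g := by
      refine Function.Injective.sumElim (fun _ _ _ => rfl)
        (Function.Injective.sumElim Subtype.val_injective
          (Function.Injective.sumElim Subtype.val_injective
            (Function.Injective.sumElim Subtype.val_injective Subtype.val_injective ?_) ?_) ?_) ?_
      · exact fun a b e => hzw (a.2.trans (e ▸ b.2).symm)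
      · intro a0 b0 e
        obtain ⟨a, _, ha⟩ := a0
        rcases b0 with ⟨b, hb⟩ | ⟨b, hb⟩
        · exact ha ((show a = b from e) ▸ (hord hz2 hb hz1).1)
        · exact ha ((show a = b from e) ▸ (hord hw2 hb hw1).1)
      · intro a0 b0 e
        obtain ⟨a, ha⟩ := a0
        rcases b0 with ⟨b, hb20, _⟩ | ⟨b, hb⟩ | ⟨b, hb⟩
        · have e' : a = b := e
          subst e'
          have := orderOf_dvd_of_pow_eq_one hb20
          rw [ha] at this
          norm_num at this
        · exact (hord hz2 hb hz1).2.1 ((show a = b from e) ▸ ha)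
        · exact (hord hw2 hb hw1).2.1 ((show a = b from e) ▸ ha)
      · intro a0 b0 e
        rcases b0 with ⟨b, hb⟩ | ⟨b, _, hb⟩ | ⟨b, hb⟩ | ⟨b, hb⟩
        · rw [show b = 1 from (show (1 : G) = b from e).symm, orderOf_one] at hb
          omega
        · exact hb (by rw [show b = 1 from (show (1 : G) = b from e).symm, one_pow])
        · exact (hord hz2 hb hz1).2.2 (show (1 : G) = b from e).symm
        · exact (hord hw2 hb hw1).2.2 (show (1 : G) = b from e).symm
    have := Nat.card_le_card_of_injective g hg
    rw [Nat.card_sum, Nat.card_sum, Nat.card_sum, Nat.card_sum, Nat.card_unique, h13, hclassw, h] at this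
    omega

end CfsgLib.TwoGroups.SmallOrders
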