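import Cfsg.Agent.Lib.TwoGroups.SmallOrders.Filter
import Cfsg.Agent.Lib.TwoGroups.SmallOrders.SevenFiftySix
import Cfsg.Agent.Lib.TwoGroups.SmallOrders.SevenTwenty
import Cfsg.Agent.Lib.TwoGroups.SmallOrders.SixTwelve
import Cfsg.Agent.Lib.TwoGroups.SmallOrders.TenForty

/-!
Owner: helper12. The orders of non-abelian simple groups up to 1092.
-/

set_option autoImplicit false

namespace CfsgLib.TwoGroups.SmallOrders

open Subgroup CfsgLib.Perm

/-- The orders needing a special argument, and the six orders of simple groups. -/
def specialOrders : List ℕ :=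
  [60, 168, 360, 504, 660, 1092, 120, 180, 264, 336, 420, 480, 528, 560, 612, 672, 720, 756, 760, 792, 840,
    960, 1008, 1040, 1056, 1080]

/-- The filter. -/
def orderDispatch (n : ℕ) : Bool :=
  n % 4 == 2 || isPQB n || specialOrders.contains n || noCandB n

theorem orderDispatch_all : (List.range 1092).all (fun i => orderDispatch (i + 1)) = true := by decide +kernel

variable {G : Type*} [Group G] [Finite G] [IsSimpleGroup G]

theorem false_of_succ (hG : ¬ IsMulCommutative G) {p e : ℕ} (hp : p.Prime) (hp2 : p ≠ 2) (hpe : ¬ p ∣ (p + 1) * e)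
    (h : Nat.card G = (p + 1) * p * e) (hc : cands p 1 ((p + 1) * e) = [p + 1]) (hd : ¬ 2 * e ∣ p - 1) : False := by
  have := Fact.mk hp
  have hmem := card_sylow_mem_cands hG (a := 1) (m := (p + 1) * e) (by rw [h, pow_one]; ring) one_ne_zero hpe
    (fun e0 => by have := Nat.eq_one_of_mul_eq_one_right e0; have := hp.pos; omega)
  rw [hc, List.mem_singleton] at hmem
  exact hd (two_mul_dvd_of_card_sylow_eq_succ hG hp2 h hmem)

theorem orders_le_ten_ninety_two (hG : ¬ IsMulCommutative G) (h : Nat.card G ≤ 1092) :
    Nat.card G = 60 ∨ Nat.card G = 168 ∨ Nat.card G = 360 ∨ Nat.card G = 504 ∨ Nat.card G = 660 ∨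
      Nat.card G = 1092 := by
  have hd : orderDispatch (Nat.card G) = true := by
    have := List.all_eq_true.1 orderDispatch_all (Nat.card G - 1)
      (List.mem_range.2 (by have : 0 < Nat.card G := Nat.card_pos; omega))
    rwa [Nat.sub_add_cancel Nat.card_pos] at this
  simp only [orderDispatch, Bool.or_eq_true, beq_iff_eq, List.contains_iff_mem] at hd
  rcases hd with ((hd | hd) | hd) | hd
  · exact (false_of_two_mod_four hG hd).elim
  · exact (false_of_isPQB hG hd).elim
  swap
  · exact (false_of_noCandB hG hd).elim
  simp only [specialOrders, List.mem_cons, List.not_mem_nil, or_false] at hd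
  rcases hd with hd | hd | hd | hd | hd | hd | hd | hd | hd | hd | hd | hd | hd | hd | hd | hd | hd | hd | hd |
    hd | hd | hd | hd | hd | hd | hd
  · exact Or.inl hd
  · exact Or.inr (Or.inl hd)
  · exact Or.inr (Or.inr (Or.inl hd))
  · exact Or.inr (Or.inr (Or.inr (Or.inl hd)))
  · exact Or.inr (Or.inr (Or.inr (Or.inr (Or.inl hd))))
  · exact Or.inr (Or.inr (Or.inr (Or.inr (Or.inr hd))))
  all_goals exfalso
  · exact false_of_succ hG (p := 5) (e := 4) (by norm_num) (by norm_num) (by norm_num) hd (by decide +kernel) (by norm_num)
  · exact false_of_succ hG (p := 5) (e := 6) (by norm_num) (by norm_num) (by norm_num) hd (by decide +kernel) (by norm_num)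
  · exact false_of_succ hG (p := 11) (e := 2) (by norm_num) (by norm_num) (by norm_num) hd (by decide +kernel) (by norm_num)
  · exact false_of_succ hG (p := 7) (e := 6) (by norm_num) (by norm_num) (by norm_num) hd (by decide +kernel) (by norm_num)
  · -- 420
    have : Fact (Nat.Prime 7) := ⟨by norm_num⟩
    have hmem := card_sylow_mem_cands hG (p := 7) (a := 1) (m := 60) (by rw [hd]; norm_num) one_ne_zero
      (by norm_num) (by norm_num)
    rw [show cands 7 1 60 = [15] from by decide +kernel, List.mem_singleton] at hmem
    exact false_four_hundred_twenty hG (Or.inl hd) hmem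
  · exact false_four_hundred_eighty hG (k := 5) (by norm_num) (by rw [hd]; norm_num)
      (by rw [hd]; norm_num [Nat.factorial])
  · exact false_of_succ hG (p := 11) (e := 4) (by norm_num) (by norm_num) (by norm_num) hd (by decide +kernel) (by norm_num)
  · exact false_of_succ hG (p := 7) (e := 10) (by norm_num) (by norm_num) (by norm_num) hd (by decide +kernel) (by norm_num)
  · exact false_six_twelve hG hd
  · exact false_of_succ hG (p := 7) (e := 12) (by norm_num) (by norm_num) (by norm_num) hd (by decide +kernel) (by norm_num)
  · exact false_seven_twenty hG hd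
  · exact false_seven_fifty_six hG hd
  · exact false_of_succ hG (p := 19) (e := 2) (by norm_num) (by norm_num) (by norm_num) hd (by decide +kernel) (by norm_num)
  · exact false_of_succ hG (p := 11) (e := 6) (by norm_num) (by norm_num) (by norm_num) hd (by decide +kernel) (by norm_num)
  · -- 840
    have : Fact (Nat.Prime 7) := ⟨by norm_num⟩
    have hmem := card_sylow_mem_cands hG (p := 7) (a := 1) (m := 120) (by rw [hd]; norm_num) one_ne_zero
      (by norm_num) (by norm_num)
    rw [show cands 7 1 120 = [8, 15] from by decide +kernel] at hmem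
    simp only [List.mem_cons, List.not_mem_nil, or_false] at hmem
    rcases hmem with e | e
    · exact absurd (two_mul_dvd_of_card_sylow_eq_succ hG (by norm_num) (e := 15) hd e) (by norm_num)
    · exact false_four_hundred_twenty hG (Or.inr hd) e
  · exact false_four_hundred_eighty hG (k := 6) (by norm_num) (by rw [hd]; norm_num)
      (by rw [hd]; norm_num [Nat.factorial])
  · -- 1008
    have : Fact (Nat.Prime 7) := ⟨by norm_num⟩
    have hmem := card_sylow_mem_cands hG (p := 7) (a := 1) (m := 144) (by rw [hd]; norm_num) one_ne_zero
      (by norm_num) (by norm_num)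
    rw [show cands 7 1 144 = [8, 36] from by decide +kernel] at hmem
    simp only [List.mem_cons, List.not_mem_nil, or_false] at hmem
    rcases hmem with e | e
    · exact absurd (two_mul_dvd_of_card_sylow_eq_succ hG (by norm_num) (e := 18) hd e) (by norm_num)
    · exact false_ten_oh_eight hG hd e
  · exact false_ten_forty hG hd
  · exact false_of_succ hG (p := 11) (e := 8) (by norm_num) (by norm_num) (by norm_num) hd (by decide +kernel) (by norm_num)
  · exact false_ten_eighty hG hd

end CfsgLib.TwoGroups.SmallOrders
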