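import Cfsg.Agent.Lib.TwoGroups.SmallOrders.Tools

/-!
Owner: helper12. There are no simple groups of order 420, 480, 840, 960, 1008 or 1080.
-/

set_option autoImplicit false

namespace CfsgLib.TwoGroups.SmallOrders

open Subgroup MulAction CfsgLib.Perm
open scoped Pointwise

variable {G : Type*} [Group G] [Finite G] [IsSimpleGroup G]

/-- The order of the centraliser of a Sylow subgroup of prime order. -/
theorem exists_card_centralizer {p a : ℕ} [Fact p.Prime] (P : Sylow p G)
    (hP : Nat.card (P : Subgroup G) = p) (hne : ¬ IsPGroup p G)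
    (hN : Nat.card (normalizer ((P : Subgroup G) : Set G)) = p * a) :
    ∃ r, r ∣ a ∧ r ∣ p - 1 ∧ r ≠ 1 ∧ Nat.card (centralizer ((P : Subgroup G) : Set G)) * r = p * a := by
  refine ⟨_, relIndex_centralizer_dvd_div _ hP hN, relIndex_centralizer_dvd_sub_one _ hP, fun e => ?_, ?_⟩
  · exact not_normalizer_le_centralizer P (hP ▸ card_subgroup_dvd_card _) hne (relIndex_eq_one.1 e)
  · rw [← hN, relIndex, ← card_mul_index ((centralizer ((P : Subgroup G) : Set G)).subgroupOf
      (normalizer ((P : Subgroup G) : Set G))),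
      Nat.card_congr (subgroupOfEquivOfLe (centralizer_le_normalizer _)).toEquiv]

/-- An involution in the centraliser of a Sylow subgroup of odd prime order. -/
theorem exists_involution_centralizing {p : ℕ} [Fact p.Prime] (hp2 : p ≠ 2) (P : Sylow p G)
    (hP : Nat.card (P : Subgroup G) = p)
    (h2 : 2 ∣ Nat.card (centralizer ((P : Subgroup G) : Set G))) :
    ∃ z : G, orderOf z = 2 ∧ z ∈ centralizer ((P : Subgroup G) : Set G) ∧
      2 * p ∣ Nat.card ↥(centralizer ((P : Subgroup G) : Set G) ⊓ centralizer ({z} : Set G)) := by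
  have hp : p.Prime := Fact.out
  have := Fact.mk Nat.prime_two
  obtain ⟨z, hz⟩ := exists_prime_orderOf_dvd_card' (G := centralizer ((P : Subgroup G) : Set G)) 2 h2
  refine ⟨z, by rw [Subgroup.orderOf_coe, hz], z.2, ?_⟩
  refine Nat.Coprime.mul_dvd_of_dvd_of_dvd ((Nat.coprime_primes Nat.prime_two hp).2 (Ne.symm hp2)) ?_ ?_
  · have := Subgroup.orderOf_dvd_natCard (centralizer ((P : Subgroup G) : Set G) ⊓ centralizer ({(z : G)} : Set G))
      (x := (z : G)) ⟨z.2, mem_centralizer_singleton_iff.2 rfl⟩
    rwa [Subgroup.orderOf_coe, hz] at this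
  · refine hP.symm.dvd.trans ?_
    refine card_dvd_of_le (le_inf ?_ ?_)
    · have hcyc : IsCyclic (P : Subgroup G) := isCyclic_of_prime_card hP
      intro x hx
      exact mem_centralizer_iff.2 fun y hy =>
        congrArg Subtype.val ((hcyc.isMulCommutative).is_comm.comm (⟨y, hy⟩ : (P : Subgroup G)) ⟨x, hx⟩)
    · exact fun x hx => mem_centralizer_singleton_iff.2 ((mem_centralizer_iff.1 z.2) x hx)

theorem false_four_hundred_twenty (hG : ¬ IsMulCommutative G) (h : Nat.card G = 420 ∨ Nat.card G = 840)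
    [Fact (Nat.Prime 7)] (hn : Nat.card (Sylow 7 G) = 15) : False := by
  obtain ⟨m, hm, hm7⟩ : ∃ m, Nat.card G = 7 ^ 1 * m ∧ (m = 60 ∨ m = 120) := by
    rcases h with h | h
    · exact ⟨60, by rw [h]; norm_num, Or.inl rfl⟩
    · exact ⟨120, by rw [h]; norm_num, Or.inr rfl⟩
  have hall : ∀ R : Sylow 7 G, Nat.card (R : Subgroup G) = 7 := fun R => by
    rw [sylow_card_eq R hm (by rcases hm7 with rfl | rfl <;> norm_num), pow_one]
  obtain ⟨P⟩ := (inferInstance : Nonempty (Sylow 7 G))
  obtain ⟨a, ha, ha'⟩ : ∃ a, Nat.card (normalizer ((P : Subgroup G) : Set G)) = 7 * a ∧ (a = 4 ∨ a = 8) := by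
    have := card_normalizer_mul_card_sylow P
    rw [hn] at this
    rcases h with h | h
    · exact ⟨4, by omega, Or.inl rfl⟩
    · exact ⟨8, by omega, Or.inr rfl⟩
  obtain ⟨r, hra, hr6, hr1, hC⟩ := exists_card_centralizer P (hall P)
    (not_isPGroup_of_dvd Nat.prime_two (by norm_num) (by rcases h with h | h <;> rw [h] <;> norm_num)) ha
  have hr : r = 2 := by
    have h2 : r ∣ 2 := by
      rcases ha' with rfl | rfl
      · exact (Nat.dvd_gcd hra hr6).trans (dvd_of_eq rfl)
      · exact (Nat.dvd_gcd hra hr6).trans (dvd_of_eq rfl)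
    rcases (Nat.dvd_prime Nat.prime_two).1 h2 with h | h
    · exact absurd h hr1
    · exact h
  subst hr
  obtain ⟨z, hz, hzC, hc⟩ := exists_involution_centralizing (by norm_num) P (hall P) (by omega)
  refine false_of_involution_centralizing hG (by norm_num) P (hall P) hall hz hzC (b := 15) (c := 2 * 7)
    (fun F h1 h2 h3 => ?_) hc (fun i hi => ?_)
  · rw [hn] at h1 h3 ⊢
    omega
  · rcases h with h | h <;> rw [h] at hi <;> omega

theorem false_ten_oh_eight (hG : ¬ IsMulCommutative G) (h : Nat.card G = 1008)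
    [Fact (Nat.Prime 7)] (hn : Nat.card (Sylow 7 G) = 36) : False := by
  have hall : ∀ R : Sylow 7 G, Nat.card (R : Subgroup G) = 7 := fun R => by
    rw [sylow_card_eq R (k := 1) (m := 144) (by rw [h]; norm_num) (by norm_num), pow_one]
  obtain ⟨P⟩ := (inferInstance : Nonempty (Sylow 7 G))
  have ha : Nat.card (normalizer ((P : Subgroup G) : Set G)) = 7 * 4 := by
    have := card_normalizer_mul_card_sylow P
    rw [hn, h] at this
    omega
  obtain ⟨r, hra, hr6, hr1, hC⟩ := exists_card_centralizer P (hall P)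
    (not_isPGroup_of_dvd Nat.prime_two (by norm_num) (by rw [h]; norm_num)) ha
  have hr : r = 2 := by
    rcases (Nat.dvd_prime Nat.prime_two).1 ((Nat.dvd_gcd hra hr6).trans (dvd_of_eq rfl) : r ∣ 2) with h | h
    · exact absurd h hr1
    · exact h
  subst hr
  obtain ⟨z, hz, hzC, hc⟩ := exists_involution_centralizing (by norm_num) P (hall P) (by omega)
  refine false_of_involution_centralizing hG (by norm_num) P (hall P) hall hz hzC (b := 8) (c := 2 * 7)
    (fun F h1 h2 h3 => ?_) hc (fun i hi => ?_)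
  · rw [hn] at h1 h3 ⊢
    omega
  · omega

theorem false_four_hundred_eighty (hG : ¬ IsMulCommutative G) {k : ℕ} (hk : 2 ≤ k)
    (h : Nat.card G = 2 ^ k * 15) (hk' : ¬ 2 * Nat.card G ∣ Nat.factorial 5) : False := by
  have := Fact.mk Nat.prime_two
  obtain ⟨hd, hm, h1⟩ := card_sylow_mem (q := 3) (p := 2) h (by omega) Nat.prime_three (by norm_num) (by norm_num)
  obtain ⟨P⟩ := (inferInstance : Nonempty (Sylow 2 G))
  by_cases hmod : Nat.card (Sylow 2 G) ≡ 1 [MOD 2 ^ 2]
  · refine hk' (two_mul_card_dvd_factorial_of_index_le hG (normalizer ((P : Subgroup G) : Set G)) ?_ ?_)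
    · intro e
      exact h1 ((P.card_eq_index_normalizer).trans (by rw [← index_top (G := G)]; exact congrArg Subgroup.index e))
    · refine le_trans (le_of_eq P.card_eq_index_normalizer.symm) ?_
      have hmem := Nat.mem_divisors.2 ⟨hd, (by norm_num : (15 : ℕ) ≠ 0)⟩
      rw [show (15 : ℕ).divisors = ({1, 3, 5, 15} : Finset ℕ) from by decide +kernel] at hmem
      simp only [Finset.mem_insert, Finset.mem_singleton] at hmem
      unfold Nat.ModEq at hmod
      omega
  · obtain ⟨R, S, hRS, hidx⟩ := exists_sylow_pair_index_le 2 2 hmod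
    obtain ⟨H, hH, -, hle⟩ := exists_large_subgroup h hk (by norm_num) hRS (by simpa using hidx)
    exact hk' (two_mul_card_dvd_factorial_of_index_le hG H hH (by omega))

theorem false_ten_eighty (hG : ¬ IsMulCommutative G) (h : Nat.card G = 1080) : False := by
  classical
  have : Fact (Nat.Prime 3) := ⟨Nat.prime_three⟩
  have : Fact (Nat.Prime 5) := ⟨by norm_num⟩
  have hidx : ∀ H : Subgroup G, H ≠ ⊤ → 9 ≤ H.index := fun H hH => by
    by_contra hlt
    have h5 := two_mul_card_dvd_factorial_of_index_le hG H hH (m := 8) (by omega)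
    rw [h] at h5
    norm_num [Nat.factorial] at h5
  -- the Sylow numbers
  obtain ⟨hd3, hm3, hne3⟩ := card_sylow_mem (q := 2) (p := 3) (k := 3) (m := 40)
    (by rw [h]; norm_num : Nat.card G = 3 ^ 3 * 40) (by norm_num) Nat.prime_two (by norm_num) (by norm_num)
  obtain ⟨P⟩ := (inferInstance : Nonempty (Sylow 3 G))
  have hP3 := hidx (normalizer ((P : Subgroup G) : Set G))
    (fun e => hne3 (P.card_eq_index_normalizer.trans ((congrArg Subgroup.index e).trans index_top)))
  replace hP3 : 9 ≤ Nat.card (Sylow 3 G) := hP3.trans (le_of_eq P.card_eq_index_normalizer.symm)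
  have hmem := Nat.mem_divisors.2 ⟨hd3, (by norm_num : (40 : ℕ) ≠ 0)⟩
  rw [show (40 : ℕ).divisors = ({1, 2, 4, 5, 8, 10, 20, 40} : Finset ℕ) from by decide +kernel] at hmem
  simp only [Finset.mem_insert, Finset.mem_singleton] at hmem
  obtain ⟨H, hH, hH10⟩ : ∃ H : Subgroup G, H ≠ ⊤ ∧ H.index = 10 := by
    by_cases h10 : Nat.card (Sylow 3 G) = 10
    · exact ⟨normalizer ((P : Subgroup G) : Set G),
        fun e => hne3 (P.card_eq_index_normalizer.trans ((congrArg Subgroup.index e).trans index_top)),
        P.card_eq_index_normalizer.symm.trans h10⟩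
    have hmod : ¬ Nat.card (Sylow 3 G) ≡ 1 [MOD 3 ^ 2] := fun e => by
      have e' : Nat.card (Sylow 3 G) % 9 = 1 := e
      omega
    obtain ⟨R, S, hRS, hi⟩ := exists_sylow_pair_index_le (G := G) 3 2 hmod
    obtain ⟨H, hH, hHd, hle⟩ := exists_large_subgroup (m := 40) (k := 3) (by rw [h]; norm_num) (by norm_num)
      (by norm_num) hRS (by simpa using hi)
    have h9 := hidx H hH
    refine ⟨H, hH, ?_⟩
    rcases (show H.index = 9 ∨ H.index = 10 by omega) with e | e
    · rw [e] at hHd; norm_num at hHd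
    · exact e
  -- an element of order five centralised by an element of order three
  obtain ⟨hd5, hm5, hne5⟩ := card_sylow_mem (q := 2) (p := 5) (k := 1) (m := 216)
    (by rw [h]; norm_num : Nat.card G = 5 ^ 1 * 216) (by norm_num) Nat.prime_two (by norm_num) (by norm_num)
  obtain ⟨Q⟩ := (inferInstance : Nonempty (Sylow 5 G))
  have hQ : Nat.card (Q : Subgroup G) = 5 := by
    rw [sylow_card_eq Q (k := 1) (m := 216) (by rw [h]; norm_num) (by norm_num), pow_one]
  have hQ9 := hidx (normalizer ((Q : Subgroup G) : Set G))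
    (fun e => hne5 (Q.card_eq_index_normalizer.trans ((congrArg Subgroup.index e).trans index_top)))
  replace hQ9 : 9 ≤ Nat.card (Sylow 5 G) := hQ9.trans (le_of_eq Q.card_eq_index_normalizer.symm)
  have hn5 : Nat.card (Sylow 5 G) = 36 ∨ Nat.card (Sylow 5 G) = 216 := by
    have hmem := Nat.mem_divisors.2 ⟨hd5, (by norm_num : (216 : ℕ) ≠ 0)⟩
    rw [show (216 : ℕ).divisors = ({1, 2, 3, 4, 6, 8, 9, 12, 18, 24, 27, 36, 54, 72, 108, 216} : Finset ℕ)
      from by decide +kernel] at hmem
    simp only [Finset.mem_insert, Finset.mem_singleton] at hmem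
    omega
  obtain ⟨a, ha, ha'⟩ : ∃ a, Nat.card (normalizer ((Q : Subgroup G) : Set G)) = 5 * a ∧ (a = 6 ∨ a = 1) := by
    have := card_normalizer_mul_card_sylow Q
    rcases hn5 with e | e
    · exact ⟨6, by rw [e] at this; omega, Or.inl rfl⟩
    · exact ⟨1, by rw [e] at this; omega, Or.inr rfl⟩
  obtain ⟨r, hra, hr4, hr1, hC⟩ := exists_card_centralizer Q hQ
    (not_isPGroup_of_dvd Nat.prime_two (by norm_num) (by rw [h]; norm_num)) ha
  rcases ha' with rfl | rfl
  swap
  · exact hr1 (Nat.dvd_one.1 hra)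
  have hr : r = 2 := by
    rcases (Nat.dvd_prime Nat.prime_two).1 ((Nat.dvd_gcd hra hr4).trans (dvd_of_eq rfl) : r ∣ 2) with h | h
    · exact absurd h hr1
    · exact h
  subst hr
  obtain ⟨y, hy⟩ := exists_prime_orderOf_dvd_card' (G := (Q : Subgroup G)) 5 (by rw [hQ])
  have hCy : centralizer ((Q : Subgroup G) : Set G) ≤ centralizer ({(y : G)} : Set G) := fun x hx =>
    mem_centralizer_singleton_iff.2 ((mem_centralizer_iff.1 hx) y y.2).symm
  have h3 : 3 ∣ Nat.card (centralizer ({(y : G)} : Set G)) :=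
    (show 3 ∣ Nat.card (centralizer ((Q : Subgroup G) : Set G)) by omega).trans (card_dvd_of_le hCy)
  -- the action on ten points
  have := Fintype.ofFinite (G ⧸ H)
  set φ := MulAction.toPermHom G (G ⧸ H)
  have hinj := toPermHom_quotient_injective H hH
  set c := φ (y : G) with hc
  have hco : orderOf c = 5 := by rw [hc, orderOf_injective φ hinj, Subgroup.orderOf_coe, hy]
  have hall : ∀ n ∈ c.cycleType, n = 5 := fun n hn => by
    have h1 := Equiv.Perm.two_le_of_mem_cycleType hn
    have h2 := Equiv.Perm.dvd_of_mem_cycleType hn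
    rw [hco] at h2
    rcases (Nat.dvd_prime (by norm_num)).1 h2 with e | e <;> omega
  have hsupp : c.support.card = 10 := by
    have huniv : c.support = Finset.univ := by
      refine Finset.eq_univ_iff_forall.2 fun w => ?_
      induction w using QuotientGroup.induction_on with
      | H g =>
        rw [Equiv.Perm.mem_support]
        intro e
        change (y : G) • (g : G ⧸ H) = g at e
        rw [MulAction.Quotient.smul_coe, eq_comm, QuotientGroup.eq, smul_eq_mul] at e
        have h5 := Subgroup.orderOf_dvd_natCard H e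
        rw [show g⁻¹ * ((y : G) * g) = g⁻¹ * (y : G) * (g⁻¹)⁻¹ by group, orderOf_conj_eq', Subgroup.orderOf_coe,
          hy] at h5
        have hH108 := H.card_mul_index
        rw [hH10, h] at hH108
        omega
    rw [huniv, Finset.card_univ, ← Nat.card_eq_fintype_card]
    exact hH10
  have hrep := Multiset.eq_replicate_card.2 hall
  have hsum := Equiv.Perm.sum_cycleType c
  rw [hrep, Multiset.sum_replicate, hsupp, smul_eq_mul] at hsum
  have hle : (centralizer ({(y : G)} : Set G)).map φ ≤ centralizer ({c} : Set (Equiv.Perm (G ⧸ H))) := by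
    rintro _ ⟨x, hx, rfl⟩
    rw [mem_centralizer_singleton_iff, hc, ← map_mul, ← map_mul, mem_centralizer_singleton_iff.1 hx]
  have h50 := card_dvd_of_le hle
  rw [card_map_of_injective hinj, Equiv.Perm.nat_card_centralizer, hrep,
    show c.cycleType.card = 2 by omega, ← Nat.card_eq_fintype_card,
    show Nat.card (G ⧸ H) = 10 from hH10] at h50
  simp [Multiset.replicate_succ] at h50
  have := h3.trans h50
  omega
where
  orderOf_conj_eq' {c g : G} : orderOf (c * g * c⁻¹) = orderOf g :=
    orderOf_injective (MulAut.conj c).toMonoidHom (MulAut.conj c).injective g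

end CfsgLib.TwoGroups.SmallOrders
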