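import Cfsg.Agent.Lib.Perm.SylowFixed
import Cfsg.Agent.S0989
import Cfsg.Agent.S0990

/-!
Owner: helper12. Tools to exclude simple groups of given small orders: Sylow numbers `p + 1`,
large normalisers of Sylow intersections, fixed point parities and incidence counts.
-/

set_option autoImplicit false

namespace CfsgLib.TwoGroups.SmallOrders

open Subgroup MulAction CfsgLib.Perm
open scoped Pointwise

variable {G : Type*} [Group G] [Finite G]

/-- With `p + 1` Sylow subgroups of order `p`, the normaliser quotient order divides `(p - 1) / 2`. -/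
theorem two_mul_dvd_of_card_sylow_eq_succ [IsSimpleGroup G] (hG : ¬ IsMulCommutative G) {p e : ℕ}
    [Fact p.Prime] (hp2 : p ≠ 2) (h : Nat.card G = (p + 1) * p * e)
    (hn : Nat.card (Sylow p G) = p + 1) : 2 * e ∣ p - 1 := by
  classical
  have hp : p.Prime := Fact.out
  obtain ⟨P⟩ := (inferInstance : Nonempty (Sylow p G))
  set N := normalizer ((P : Subgroup G) : Set G) with hNdef
  have hidx : N.index = p + 1 := P.card_eq_index_normalizer.symm.trans hn
  have hNtop : N ≠ ⊤ := fun e0 => by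
    rw [e0, index_top] at hidx
    have := hp.pos
    omega
  have hN : Nat.card N = p * e := by
    have := CfsgLib.Perm.card_normalizer_mul_card_sylow P
    rw [hn, h] at this
    refine Nat.eq_of_mul_eq_mul_right (Nat.succ_pos p) ?_
    rw [this, Nat.succ_eq_add_one]; ring
  have := Fintype.ofFinite (G ⧸ N)
  set φ := MulAction.toPermHom G (G ⧸ N) with hφ
  have hinj := toPermHom_quotient_injective N hNtop
  have hα : Fintype.card (G ⧸ N) = p + 1 := by rw [← Nat.card_eq_fintype_card]; exact hidx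
  have hperm : ¬ p ^ 2 ∣ Nat.card (Equiv.Perm (G ⧸ N)) := fun hd => by
    rw [Nat.card_perm, Nat.card_eq_fintype_card, hα, Nat.factorial_succ] at hd
    have hd' : p ^ 2 ∣ p.factorial :=
      (Nat.Coprime.pow_left 2 ((Nat.Prime.coprime_iff_not_dvd hp).2 fun h1 => hp.ne_one
        (Nat.dvd_one.1 ((Nat.dvd_add_right (dvd_refl p)).1 h1)))).dvd_of_dvd_mul_left hd
    obtain ⟨q, hq⟩ := Nat.exists_eq_succ_of_ne_zero hp.ne_zero
    rw [hq, Nat.factorial_succ, pow_two, ← hq] at hd'
    rw [show q + 1 = p from hq.symm] at hd'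
    have := (Nat.Prime.dvd_factorial hp).1 ((Nat.mul_dvd_mul_iff_left hp.pos).1 hd')
    omega
  obtain ⟨Q, hQ⟩ := ((P.isPGroup').map φ).exists_le_sylow
  have hPdvd : p ∣ Nat.card (P : Subgroup G) :=
    P.dvd_card_of_dvd_card (h ▸ Dvd.intro ((p + 1) * e) (by ring))
  have hQeq : (P : Subgroup G).map φ = (Q : Subgroup (Equiv.Perm (G ⧸ N))) := by
    refine eq_of_le_of_card_ge hQ ?_
    rw [card_map_of_injective hinj]
    refine le_trans ?_ (Nat.le_of_dvd Nat.card_pos hPdvd)
    obtain ⟨i, hi⟩ := (IsPGroup.iff_card (p := p)).1 Q.isPGroup'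
    rcases Nat.lt_or_ge i 2 with hi2 | hi2
    · rw [hi]
      calc p ^ i ≤ p ^ 1 := Nat.pow_le_pow_right hp.pos (by omega)
        _ = p := pow_one p
    · exact absurd ((pow_dvd_pow p hi2).trans (hi ▸ card_subgroup_dvd_card _)) hperm
  obtain ⟨hQle, hQA⟩ := Cfsg.Agent.S0990.result (α := G ⧸ N) (by have := hp.two_le; omega) p hp2 Q
  have hQN := Cfsg.Agent.S0989.result (α := G ⧸ N) p (Or.inr hα) Q
  rw [hQN] at hQA
  set A := alternatingGroup (G ⧸ N)
  have hle : N.map φ ≤ A ⊓ normalizer ((Q : Subgroup (Equiv.Perm (G ⧸ N))) : Set (Equiv.Perm (G ⧸ N))) := by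
    refine le_inf ?_ (hQeq ▸ le_normalizer_map φ)
    rintro _ ⟨g, -, rfl⟩
    exact Equiv.Perm.mem_alternatingGroup.2 (hom_comm_trivial hG (Equiv.Perm.sign.comp φ) g)
  have h1 := card_dvd_of_le hle
  rw [card_map_of_injective hinj, hN] at h1
  have h2 : 2 * Nat.card ↥(A ⊓ normalizer ((Q : Subgroup (Equiv.Perm (G ⧸ N))) : Set (Equiv.Perm (G ⧸ N)))) =
      p * (p - 1) := by
    rw [← hQA, ← subgroupOf_normalizer_eq hQle, ← Nat.card_congr (subgroupOfEquivOfLe
      (H := A ⊓ normalizer ((Q : Subgroup (Equiv.Perm (G ⧸ N))) : Set (Equiv.Perm (G ⧸ N)))) (K := A)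
      inf_le_left).toEquiv, inf_subgroupOf_left]
  have h3 : p * (2 * e) ∣ p * (p - 1) := by
    rw [← h2, ← mul_assoc, mul_comm p 2, mul_assoc]
    exact mul_dvd_mul_left 2 h1
  exact (Nat.mul_dvd_mul_iff_left hp.pos).1 h3

/-- Two Sylow subgroups meeting in a subgroup of index `p` give a large proper subgroup. -/
theorem exists_large_subgroup [IsSimpleGroup G] {p k m : ℕ} [Fact p.Prime]
    (h : Nat.card G = p ^ k * m) (hk : 2 ≤ k) (hm : ¬ p ∣ m)
    {R S : Sylow p G} (hRS : R ≠ S)
    (hidx : ((S : Subgroup G).subgroupOf (R : Subgroup G)).index ≤ p) :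
    ∃ H : Subgroup G, H ≠ ⊤ ∧ H.index ∣ m ∧ H.index * (p + 1) ≤ m := by
  have hp : p.Prime := Fact.out
  have hR : ∀ T : Sylow p G, Nat.card (T : Subgroup G) = p ^ k := fun T => sylow_card_eq T h hm
  set D := (R : Subgroup G) ⊓ (S : Subgroup G) with hD
  have hDR : Nat.card D = p ^ (k - 1) := by
    obtain ⟨i, hi⟩ := R.isPGroup'.index ((S : Subgroup G).subgroupOf (R : Subgroup G))
    have hi0 : i ≠ 0 := fun e => by
      rw [e, pow_zero, index_eq_one, subgroupOf_eq_top] at hi
      exact hRS (Sylow.ext (eq_of_le_of_card_ge hi (by rw [hR, hR])))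
    rw [hi] at hidx
    have hi1 : i = 1 := by
      have := (Nat.pow_le_pow_iff_right hp.two_le).1 (by simpa using hidx : p ^ i ≤ p ^ 1)
      omega
    have h1 := card_mul_index ((S : Subgroup G).subgroupOf (R : Subgroup G))
    rw [← inf_subgroupOf_left, Nat.card_congr (subgroupOfEquivOfLe inf_le_left).toEquiv, inf_subgroupOf_left,
      hi, hi1, pow_one, hR, ← hD] at h1
    refine Nat.eq_of_mul_eq_mul_right hp.pos ?_
    rw [h1, ← pow_succ]
    congr 1; omega
  have hnorm : ∀ T : Sylow p G, D ≤ (T : Subgroup G) → (T : Subgroup G) ≤ normalizer (D : Set G) := by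
    intro T hT
    refine (normal_subgroupOf_iff_le_normalizer hT).1 (Subgroup.normal_of_index_eq_minFac_card ?_)
    have h1 := card_mul_index (D.subgroupOf (T : Subgroup G))
    rw [Nat.card_congr (subgroupOfEquivOfLe hT).toEquiv, hDR, hR] at h1
    rw [hR, Nat.pow_minFac (by omega), hp.minFac_eq]
    refine Nat.eq_of_mul_eq_mul_left (pow_pos hp.pos (k - 1)) ?_
    rw [h1, ← pow_succ]
    congr 1; omega
  set H := normalizer (D : Set G) with hH
  have hRH := hnorm R inf_le_left
  have hSH := hnorm S inf_le_right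
  have hHtop : H ≠ ⊤ := fun e => by
    rcases (normalizer_eq_top_iff.1 e).eq_bot_or_eq_top with e1 | e1
    · rw [e1, card_bot] at hDR
      exact absurd hDR.symm (by rw [Nat.pow_eq_one]; have := hp.ne_one; omega)
    · have hlt : p ^ (k - 1) < p ^ k := Nat.pow_lt_pow_right hp.one_lt (by omega)
      rw [← hR R, ← hDR, e1, card_top] at hlt
      exact absurd (Subgroup.card_le_card_group (R : Subgroup G)) (not_le.2 hlt)
  have hn1 : 1 < Nat.card (Sylow p H) := Finite.one_lt_card_iff_nontrivial.2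
    ⟨R.subtype hRH, S.subtype hSH, fun e => hRS (Sylow.subtype_injective e)⟩
  have hHk : p ^ k ∣ Nat.card H := (hR R) ▸ card_dvd_of_le hRH
  obtain ⟨r, hr⟩ := hHk
  have hrm : r * H.index = m := by
    refine Nat.eq_of_mul_eq_mul_left (pow_pos hp.pos k) ?_
    rw [← h, ← mul_assoc, ← hr, card_mul_index]
  refine ⟨H, hHtop, ⟨r, by rw [← hrm, mul_comm]⟩, ?_⟩
  have hnr : Nat.card (Sylow p H) ∣ r := card_sylow_dvd_of_card_eq hr
  have hmod := card_sylow_modEq_one p H
  rw [Nat.ModEq, Nat.one_mod_eq_one.2 hp.ne_one] at hmod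
  have hge : p + 1 ≤ Nat.card (Sylow p H) := by
    by_contra hlt
    rcases Nat.lt_or_ge (Nat.card (Sylow p H)) p with h2 | h2
    · rw [Nat.mod_eq_of_lt h2] at hmod; omega
    · have : Nat.card (Sylow p H) = p := by omega
      rw [this, Nat.mod_self] at hmod; omega
  have hr0 : 0 < r := Nat.pos_of_ne_zero fun e => by
    rw [e, mul_zero] at hr; exact Nat.card_pos.ne' hr
  calc H.index * (p + 1) ≤ H.index * r :=
        Nat.mul_le_mul_left _ (hge.trans (Nat.le_of_dvd hr0 hnr))
    _ = m := by rw [mul_comm, hrm]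

/-- An involution of a simple group moves a multiple of four points. -/
theorem four_dvd_moved [IsSimpleGroup G] (hG : ¬ IsMulCommutative G) {α : Type*} [MulAction G α] [Finite α]
    {z : G} (hz : z * z = 1) :
    4 ∣ Nat.card α - Nat.card {a : α // z • a = a} ∧ Nat.card {a : α // z • a = a} ≤ Nat.card α := by
  classical
  let _ := Fintype.ofFinite α
  set σ := MulAction.toPermHom G α z with hσ
  have hσ2 : σ ^ 2 = 1 := by rw [hσ, ← map_pow, pow_two, hz, map_one]
  obtain ⟨hs, hev⟩ := sign_of_sq_eq_one hσ2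
  have h1 := hom_comm_trivial hG (Equiv.Perm.sign.comp (MulAction.toPermHom G α)) z
  rw [MonoidHom.comp_apply, ← hσ, hs] at h1
  have hsupp : σ.support.card + Nat.card {a : α // z • a = a} = Nat.card α := by
    rw [Nat.card_eq_fintype_card, Nat.card_eq_fintype_card, Fintype.card_subtype,
      ← Finset.card_add_card_compl σ.support]
    congr 2
    ext w
    simp [hσ]
  obtain ⟨k, hk⟩ := hev
  refine ⟨⟨k / 2, ?_⟩, by omega⟩
  rcases Nat.even_or_odd k with ⟨j, hj⟩ | hj
  · omega
  · rw [hk, Nat.mul_div_cancel_left _ (by norm_num), hj.neg_one_pow] at h1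
    exact absurd h1 (by decide)

/-- An even permutation `σ` of ten points with `σ ^ 4 = 1` whose square fixes exactly two points
fixes a point. -/
theorem exists_fixed_of_sq {β : Type*} [Fintype β] [DecidableEq β] (hβ : Fintype.card β = 10)
    {σ : Equiv.Perm β} (hs : Equiv.Perm.sign σ = 1) (h4 : σ ^ 4 = 1)
    (hfix : Nat.card {b : β // σ (σ b) = b} = 2) : ∃ b, σ b = b := by
  classical
  obtain ⟨⟨a, ha⟩, ⟨b, hb⟩, hab, huniv⟩ := Nat.card_eq_two_iff.1 hfix
  have hab' : a ≠ b := fun e => hab (Subtype.ext e)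
  have hcase : ∀ c, σ (σ c) = c → c = a ∨ c = b := fun c hc => by
    have h := huniv ▸ Set.mem_univ (⟨c, hc⟩ : {x : β // σ (σ x) = x})
    rcases h with h | h
    · exact Or.inl (congrArg Subtype.val h)
    · exact Or.inr (congrArg Subtype.val h)
  by_contra hne
  push Not at hne
  have hσa : σ a = b := ((hcase (σ a) (congrArg σ ha)).resolve_left (hne a))
  have hσb : σ b = a := by rw [← hσa, ha]
  set ρ := Equiv.swap a b * σ with hρ
  have hρc : ∀ c, c ≠ a → c ≠ b → ρ c = σ c ∧ σ c ≠ a ∧ σ c ≠ b := fun c hca hcb => by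
    have h1 : σ c ≠ a := fun e => hcb (σ.injective (e.trans hσb.symm))
    have h2 : σ c ≠ b := fun e => hca (σ.injective (e.trans hσa.symm))
    exact ⟨by rw [hρ, Equiv.Perm.mul_apply, Equiv.swap_apply_of_ne_of_ne h1 h2], h1, h2⟩
  have hρa : ρ a = a := by rw [hρ, Equiv.Perm.mul_apply, hσa, Equiv.swap_apply_right]
  have hρb : ρ b = b := by rw [hρ, Equiv.Perm.mul_apply, hσb, Equiv.swap_apply_left]
  have hρ2 : ∀ c, ρ (ρ c) = c → c = a ∨ c = b := fun c hc => by
    by_contra hcc
    push Not at hcc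
    obtain ⟨h1, h2, h3⟩ := hρc c hcc.1 hcc.2
    rw [h1, (hρc (σ c) h2 h3).1] at hc
    rcases hcase c hc with h | h
    · exact hcc.1 h
    · exact hcc.2 h
  have hρ4 : ρ ^ 4 = 1 := by
    ext c
    by_cases hca : c = a
    · subst hca; simp [pow_succ, hρa]
    by_cases hcb : c = b
    · subst hcb; simp [pow_succ, hρb]
    obtain ⟨h1, h2, h3⟩ := hρc c hca hcb
    obtain ⟨h4', h5, h6⟩ := hρc _ h2 h3
    obtain ⟨h7, h8, h9⟩ := hρc _ h5 h6
    have := Equiv.ext_iff.1 h4 c
    simp only [pow_succ, pow_zero, one_mul, Equiv.Perm.mul_apply, Equiv.Perm.one_apply] at this ⊢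
    rw [h1, h4', h7, (hρc _ h8 h9).1, this]
  have hsupp : ρ.support.card = 8 := by
    have : ρ.support = Finset.univ \ {a, b} := by
      ext c
      simp only [Equiv.Perm.mem_support, Finset.mem_sdiff, Finset.mem_univ, Finset.mem_insert,
        Finset.mem_singleton, true_and]
      constructor
      · intro hc hcc
        rcases hcc with rfl | rfl
        · exact hc hρa
        · exact hc hρb
      · intro hc e
        exact hc (hρ2 c (by rw [e, e]))
    rw [this, Finset.card_sdiff_of_subset (Finset.subset_univ _), Finset.card_univ, hβ, Finset.card_pair hab']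
  have hall : ∀ n ∈ ρ.cycleType, n = 4 := by
    intro n hn
    have h1 := Equiv.Perm.two_le_of_mem_cycleType hn
    have h2 := (Equiv.Perm.dvd_of_mem_cycleType hn).trans (orderOf_dvd_of_pow_eq_one hρ4)
    obtain ⟨i, hi, rfl⟩ := (Nat.dvd_prime_pow Nat.prime_two).1 (show n ∣ 2 ^ 2 from h2)
    interval_cases i
    · simp at h1
    · exfalso
      obtain ⟨c, τ, hρ', hdisj, hc, hcard⟩ := Equiv.Perm.mem_cycleType_iff.1 hn
      obtain ⟨w, hw⟩ : ∃ w, w ∈ c.support := Finset.card_pos.1 (by rw [hcard]; norm_num)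
      have hw' := Equiv.Perm.mem_support.1 hw
      have hcc : c (c w) = w := by
        have hord : c ^ 2 = 1 := by
          have := pow_orderOf_eq_one c
          rwa [hc.orderOf, hcard] at this
        simpa [pow_two] using Equiv.ext_iff.1 hord w
      have hτ : τ w = w := (hdisj w).resolve_left hw'
      have hτc : τ (c w) = c w := (hdisj (c w)).resolve_left fun e => hw' (c.injective e)
      have e1 : ρ w = c w := by rw [hρ', Equiv.Perm.mul_apply, hτ]
      have e2 : ρ (ρ w) = w := by rw [e1, hρ', Equiv.Perm.mul_apply, hτc, hcc]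
      rcases hρ2 w e2 with rfl | rfl
      · exact hw' (e1 ▸ hρa)
      · exact hw' (e1 ▸ hρb)
    · rfl
  have hrep := Multiset.eq_replicate_card.2 hall
  have hsum := Equiv.Perm.sum_cycleType ρ
  rw [hrep, Multiset.sum_replicate, hsupp, smul_eq_mul] at hsum
  have hsign : Equiv.Perm.sign ρ = 1 := by
    rw [Equiv.Perm.sign_of_cycleType, hrep, Multiset.sum_replicate, Multiset.card_replicate, smul_eq_mul,
      show ρ.cycleType.card = 2 by omega]
    decide
  rw [hρ, map_mul, Equiv.Perm.sign_swap hab', hs] at hsign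
  exact absurd hsign (by decide)

/-- Conjugation preserves the number of fixed Sylow subgroups. -/
theorem card_fixedSylows_conj {p : ℕ} [Fact p.Prime] (z g : G) :
    Nat.card (fixedSylows p (g * z * g⁻¹)) = Nat.card (fixedSylows p z) :=
  (Nat.card_congr (Equiv.subtypeEquiv (MulAction.toPerm g) fun R => by
    show z • R = R ↔ (g * z * g⁻¹) • g • R = g • R
    rw [smul_smul, inv_mul_cancel_right, mul_smul, smul_left_cancel_iff])).symm

/-- Incidences between a conjugacy class and the Sylow normalisers. -/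
theorem card_class_incidence {p : ℕ} [Fact p.Prime] (z : G) (P : Sylow p G) :
    Nat.card {v : G // IsConj z v} * Nat.card (fixedSylows p z) =
      Nat.card {v : G // IsConj z v ∧ v • P = P} * Nat.card (Sylow p G) := by
  classical
  let _ := Fintype.ofFinite G
  let _ := Fintype.ofFinite (Sylow p G)
  let e1 : {x : G × Sylow p G // IsConj z x.1 ∧ x.1 • x.2 = x.2} ≃
      Σ v : {v : G // IsConj z v}, fixedSylows p v.1 :=
    { toFun := fun x => ⟨⟨x.1.1, x.2.1⟩, ⟨x.1.2, x.2.2⟩⟩
      invFun := fun y => ⟨(y.1.1, y.2.1), y.1.2, y.2.2⟩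
      left_inv := fun _ => rfl
      right_inv := fun _ => rfl }
  let e2 : {x : G × Sylow p G // IsConj z x.1 ∧ x.1 • x.2 = x.2} ≃
      Σ R : Sylow p G, {v : G // IsConj z v ∧ v • R = R} :=
    { toFun := fun x => ⟨x.1.2, ⟨x.1.1, x.2⟩⟩
      invFun := fun y => ⟨(y.2.1, y.1), y.2.2⟩
      left_inv := fun _ => rfl
      right_inv := fun _ => rfl }
  have h1 : ∀ v : {v : G // IsConj z v}, Nat.card (fixedSylows p v.1) = Nat.card (fixedSylows p z) := by
    intro v
    obtain ⟨g, hg⟩ := isConj_iff.1 v.2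
    rw [← hg, card_fixedSylows_conj]
  have h2 : ∀ R : Sylow p G, Nat.card {v : G // IsConj z v ∧ v • R = R} =
      Nat.card {v : G // IsConj z v ∧ v • P = P} := by
    intro R
    obtain ⟨g, rfl⟩ := MulAction.exists_smul_eq G P R
    refine (Nat.card_congr (Equiv.subtypeEquiv (MulAut.conj g).toEquiv fun v => ?_)).symm
    show IsConj z v ∧ v • P = P ↔ IsConj z (g * v * g⁻¹) ∧ (g * v * g⁻¹) • g • P = g • P
    rw [smul_smul, inv_mul_cancel_right, mul_smul, smul_left_cancel_iff]
    refine and_congr_left fun _ => ⟨fun h => h.trans (isConj_iff.2 ⟨g, rfl⟩),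
      fun h => h.trans (isConj_iff.2 ⟨g, rfl⟩).symm⟩
  have := Nat.card_congr (e1.symm.trans e2)
  rw [Nat.card_sigma, Nat.card_sigma, Finset.sum_congr rfl (fun v _ => h1 v),
    Finset.sum_congr rfl (fun R _ => h2 R), Finset.sum_const, Finset.sum_const, Finset.card_univ,
    Finset.card_univ, smul_eq_mul, smul_eq_mul] at this
  rw [Nat.card_eq_fintype_card (α := {v : G // IsConj z v}), Nat.card_eq_fintype_card (α := Sylow p G),
    this, mul_comm]

/-- A two-element acts on a group of order four with trivial square. -/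
theorem sq_mem_centralizer_of_card_four {V : Subgroup G} (hV : Nat.card V = 4) {x : G}
    (hx : x ∈ normalizer (V : Set G)) (hx4 : x ^ 4 = 1) : x * x ∈ centralizer (V : Set G) := by
  classical
  let _ := Fintype.ofFinite V
  set a := V.normalizerMonoidHom ⟨x, hx⟩
  let f : MulAut V →* Equiv.Perm {v : V // v ≠ 1} :=
    { toFun := fun σ => σ.toEquiv.subtypeEquiv fun v => by simp
      map_one' := rfl
      map_mul' := fun _ _ => rfl }
  have hf : Function.Injective f := fun σ τ e => MulEquiv.ext fun v => by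
    by_cases hv : v = 1
    · simp [hv]
    · exact congrArg Subtype.val (Equiv.ext_iff.1 e ⟨v, hv⟩)
  have h1 : orderOf a ∣ 4 := orderOf_dvd_of_pow_eq_one (by
    rw [← map_pow, show (⟨x, hx⟩ : normalizer (V : Set G)) ^ 4 = 1 from Subtype.ext hx4, map_one])
  have h2 : orderOf a ∣ 6 := by
    rw [← orderOf_injective f hf a]
    refine (_root_.orderOf_dvd_natCard _).trans (dvd_of_eq ?_)
    rw [Nat.card_perm, Nat.card_eq_fintype_card, Fintype.card_subtype_compl, Fintype.card_subtype_eq,
      ← Nat.card_eq_fintype_card, hV]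
    rfl
  have h3 : a ^ 2 = 1 := orderOf_dvd_iff_pow_eq_one.1 (Nat.dvd_gcd h1 h2)
  rw [← map_pow] at h3
  have h4 : (⟨x, hx⟩ : normalizer (V : Set G)) ^ 2 ∈ V.normalizerMonoidHom.ker := h3
  rw [normalizerMonoidHom_ker, mem_subgroupOf] at h4
  simpa [pow_two] using h4

end CfsgLib.TwoGroups.SmallOrders
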