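import Cfsg.Agent.Lib.TwoGroups.SmallOrders.Tools
import Cfsg.Agent.Lib.Char.Burnside

/-!
Owner: helper12. Arithmetical exclusion of orders of simple groups: two prime divisors, order twice an
odd number, and orders with no possible Sylow number.
-/

set_option autoImplicit false

namespace CfsgLib.TwoGroups.SmallOrders

open Subgroup CfsgLib.Perm

/-- Trial division primality, valid below `34 ^ 2`. -/
def isPrimeB (r : ℕ) : Bool :=
  2 ≤ r && r < 1156 && (List.range 34).all (fun i => i < 2 || r < i * i || r % i != 0)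

theorem prime_of_isPrimeB {r : ℕ} (h : isPrimeB r = true) : r.Prime := by
  simp only [isPrimeB, Bool.and_eq_true, decide_eq_true_eq, List.all_eq_true, List.mem_range,
    Bool.or_eq_true, bne_iff_ne] at h
  obtain ⟨⟨h2, hlt⟩, hall⟩ := h
  rw [Nat.prime_def_le_sqrt]
  refine ⟨h2, fun m hm hms hd => ?_⟩
  have hmm : m * m ≤ r := Nat.le_sqrt.1 hms
  have hm34 : m < 34 := by nlinarith
  rcases hall m hm34 with (h' | h') | h'
  · omega
  · omega
  · exact h' (Nat.mod_eq_zero_of_dvd hd)

/-- Split off the power of `p` dividing `n`. -/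
def strip (p : ℕ) : ℕ → ℕ → ℕ × ℕ
  | 0, n => (0, n)
  | fuel + 1, n => if n % p = 0 then ((strip p fuel (n / p)).1 + 1, (strip p fuel (n / p)).2) else (0, n)

/-- The small primes. -/
def smallPrimes : List ℕ := [2, 3, 5, 7, 11, 13, 17, 19, 23, 29, 31]

/-- `n` is one or a prime power. -/
def isPrimePowB (n : ℕ) : Bool :=
  n == 1 || isPrimeB n || smallPrimes.any fun p =>
    let s := strip p 11 n
    isPrimeB p && s.2 == 1 && p ^ s.1 == n

/-- `n` has at most two prime divisors. -/
def isPQB (n : ℕ) : Bool :=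
  isPrimePowB n || smallPrimes.any fun p =>
    let s := strip p 11 n
    isPrimeB p && p ^ s.1 * s.2 == n && isPrimePowB s.2

/-- The Sylow number `k` is excluded for the order `p ^ a * m`. -/
def excluded (p a m k : ℕ) : Bool :=
  (k < 14 && Nat.factorial k % (2 * (p ^ a * m)) != 0) || (a == 1 && Nat.gcd (m / k) (p - 1) == 1) ||
    (a == 2 && m / k == 1)

/-- The possible Sylow numbers. -/
def cands (p a m : ℕ) : List ℕ :=
  (List.range (m + 1)).filter fun k => m % k == 0 && k % p == 1 && k != 1 && !excluded p a m k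

/-- The order `n` has a prime with no possible Sylow number. -/
def noCandAt (n p : ℕ) : Bool :=
  let s := strip p 11 n
  isPrimeB p && p ^ s.1 * s.2 == n && s.1 != 0 && s.2 % p != 0 && s.2 != 1 && (cands p s.1 s.2).isEmpty

/-- The largest prime factor above 31, or `1`. -/
def bigPart (n : ℕ) : ℕ := smallPrimes.foldl (fun r p => (strip p 11 r).2) n

/-- Some prime of `n` has no possible Sylow number. -/
def noCandB (n : ℕ) : Bool :=
  noCandAt n (bigPart n) || smallPrimes.reverse.any fun p => n % p == 0 && noCandAt n p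

variable {G : Type*} [Group G] [Finite G] [IsSimpleGroup G]

theorem exists_prime_pow_of_isPrimePowB {n : ℕ} (h : isPrimePowB n = true) :
    ∃ q b, Nat.Prime q ∧ q ^ b = n := by
  simp only [isPrimePowB, Bool.or_eq_true, beq_iff_eq, List.any_eq_true, Bool.and_eq_true] at h
  rcases h with (h | h) | ⟨p, -, ⟨⟨hp, -⟩, he⟩⟩
  · exact ⟨2, 0, Nat.prime_two, h.symm⟩
  · exact ⟨n, 1, prime_of_isPrimeB h, pow_one n⟩
  · exact ⟨p, _, prime_of_isPrimeB hp, he⟩

theorem false_of_isPQB (hG : ¬ IsMulCommutative G) (h : isPQB (Nat.card G) = true) : False := by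
  obtain ⟨p, q, a, b, hp, hq, he⟩ : ∃ p q a b : ℕ, p.Prime ∧ q.Prime ∧ Nat.card G = p ^ a * q ^ b := by
    simp only [isPQB, Bool.or_eq_true, List.any_eq_true, Bool.and_eq_true, beq_iff_eq] at h
    rcases h with h | ⟨p, -, ⟨⟨hp, he⟩, h'⟩⟩
    · obtain ⟨q, b, hq, he⟩ := exists_prime_pow_of_isPrimePowB h
      exact ⟨2, q, 0, b, Nat.prime_two, hq, by rw [he, pow_zero, one_mul]⟩
    · obtain ⟨q, b, hq, he'⟩ := exists_prime_pow_of_isPrimePowB h'
      exact ⟨p, q, _, b, prime_of_isPrimeB hp, hq, by rw [he', he]⟩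
  have hs : Group.IsSolvable G := CfsgLib.Burnside.isSolvable_of_card_eq hp hq he
  refine hG ⟨⟨fun x y => ?_⟩⟩
  have hlt : _root_.commutator G < ⊤ := Group.IsSolvable.commutator_lt_top_of_nontrivial G
  have hb := (IsSimpleGroup.eq_bot_or_eq_top_of_normal (_root_.commutator G) inferInstance).resolve_right hlt.ne
  exact commutatorElement_eq_one_iff_mul_comm.1 (mem_bot.1 (hb ▸
    commutator_mem_commutator (mem_top x) (mem_top y)))

theorem false_of_two_mod_four (hG : ¬ IsMulCommutative G) (h : Nat.card G % 4 = 2) : False := by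
  have : Fact (Nat.Prime 2) := ⟨Nat.prime_two⟩
  obtain ⟨P⟩ := (inferInstance : Nonempty (Sylow 2 G))
  have hP : Nat.card (P : Subgroup G) = 2 ^ 1 :=
    sylow_card_eq P (m := Nat.card G / 2) (by rw [pow_one]; omega) (by omega)
  rw [pow_one] at hP
  have h2d : 2 ∣ Nat.card G := by omega
  refine not_normalizer_le_centralizer P h2d ?_ (IsCyclic.normalizer_le_centralizer
    ((Nat.minFac_eq_two_iff _).2 h2d) (isCyclic_of_prime_card hP))
  intro hP2
  obtain ⟨k, hk⟩ := IsPGroup.iff_card.1 hP2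
  rcases Nat.lt_or_ge k 2 with hk2 | hk2
  · interval_cases k
    · simp [hk] at h2d
    · have : Fact (Nat.Prime 2) := ⟨Nat.prime_two⟩
      have hc : IsCyclic G := isCyclic_of_prime_card (p := 2) (by rw [hk, pow_one])
      exact hG hc.isMulCommutative
  · have : 4 ∣ Nat.card G := hk ▸ pow_dvd_pow 2 hk2
    omega

/-- The Sylow number is one of the candidates. -/
theorem card_sylow_mem_cands (hG : ¬ IsMulCommutative G) {p a m : ℕ} [Fact p.Prime]
    (h : Nat.card G = p ^ a * m) (ha : a ≠ 0) (hm : ¬ p ∣ m) (hm1 : m ≠ 1) :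
    Nat.card (Sylow p G) ∈ cands p a m := by
  have hp : p.Prime := Fact.out
  have hq : m.minFac.Prime := Nat.minFac_prime hm1
  have hqp : m.minFac ≠ p := fun e => hm (e ▸ Nat.minFac_dvd m)
  obtain ⟨hd, hmod, hne⟩ := card_sylow_mem h ha hq hqp (Nat.minFac_dvd m)
  have hm0 : 0 < m := Nat.pos_of_ne_zero fun e => hm (e ▸ dvd_zero p)
  obtain ⟨P⟩ := (inferInstance : Nonempty (Sylow p G))
  set k := Nat.card (Sylow p G) with hk
  have hk0 : 0 < k := Nat.card_pos
  simp only [cands, List.mem_filter, List.mem_range, Bool.and_eq_true, beq_iff_eq, bne_iff_ne,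
    Bool.not_eq_true']
  refine ⟨Nat.lt_succ_of_le (Nat.le_of_dvd hm0 hd), ⟨⟨Nat.mod_eq_zero_of_dvd hd, hmod⟩, hne⟩, ?_⟩
  rw [Bool.eq_false_iff]
  intro hex
  simp only [excluded, Bool.or_eq_true, Bool.and_eq_true, decide_eq_true_eq, bne_iff_ne, beq_iff_eq] at hex
  have hne' : ¬ IsPGroup p G := not_isPGroup_of_dvd hq hqp (h ▸ Dvd.dvd.mul_left (Nat.minFac_dvd m) _)
  have hP : Nat.card (P : Subgroup G) = p ^ a := sylow_card_eq P h hm
  have hN : Nat.card (normalizer ((P : Subgroup G) : Set G)) = p ^ a * (m / k) := by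
    have := card_normalizer_mul_card_sylow P
    rw [← hk, h] at this
    refine Nat.eq_of_mul_eq_mul_right hk0 ?_
    rw [this, mul_assoc, Nat.div_mul_cancel hd]
  rcases hex with (⟨-, hf⟩ | ⟨rfl, hg⟩) | ⟨rfl, hr⟩
  · have hidx : (normalizer ((P : Subgroup G) : Set G)).index = k := P.card_eq_index_normalizer.symm
    have hd2 := two_mul_card_dvd_factorial_index hG (normalizer ((P : Subgroup G) : Set G))
      (fun e => hne (hidx.symm.trans ((congrArg Subgroup.index e).trans index_top)))
    rw [hidx, h] at hd2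
    exact hf (Nat.mod_eq_zero_of_dvd hd2)
  · rw [pow_one] at hP hN
    exact false_of_normalizer_coprime P hP hne' hN hg
  · have hPN : (P : Subgroup G) = normalizer ((P : Subgroup G) : Set G) :=
      eq_of_le_of_card_ge le_normalizer (by rw [hN, hr, mul_one, hP])
    refine not_normalizer_le_centralizer P (h ▸ Dvd.dvd.mul_right (dvd_pow_self p two_ne_zero) m) hne'
      fun x hx => mem_centralizer_iff.2 fun y hy => ?_
    exact congrArg Subtype.val ((IsPGroup.isMulCommutative_of_card_eq_prime_sq hP).is_comm.comm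
      (⟨y, hy⟩ : (P : Subgroup G)) ⟨x, hPN.ge hx⟩)

theorem false_of_noCandB (hG : ¬ IsMulCommutative G) (h : noCandB (Nat.card G) = true) : False := by
  obtain ⟨p, hp⟩ : ∃ p, noCandAt (Nat.card G) p = true := by
    simp only [noCandB, Bool.or_eq_true, List.any_eq_true, Bool.and_eq_true] at h
    rcases h with h | ⟨p, -, -, h⟩ <;> exact ⟨_, h⟩
  simp only [noCandAt, Bool.and_eq_true, beq_iff_eq, bne_iff_ne, List.isEmpty_iff] at hp
  obtain ⟨⟨⟨⟨⟨hpp, he⟩, ha⟩, hm⟩, hm1⟩, hc⟩ := hp
  have := Fact.mk (prime_of_isPrimeB hpp)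
  have hmem := card_sylow_mem_cands hG he.symm ha (fun hd => hm (Nat.mod_eq_zero_of_dvd hd)) hm1
  rw [hc] at hmem
  simp at hmem

end CfsgLib.TwoGroups.SmallOrders
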